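import Groth.Agent.H11Cone.Forward
import Mathlib.AlgebraicGeometry.Morphisms.UniversallyInjective
import Mathlib.AlgebraicGeometry.Morphisms.UniversallyClosed

/-!
# The affinisation of a line bundle with contractible zero section, and maps factoring through it
-/

set_option autoImplicit false
set_option linter.style.haveILetI false

noncomputable section

universe u

open CategoryTheory CategoryTheory.Limits AlgebraicGeometry Opposite TopologicalSpace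
open Groth.Agent.H11Sym Groth.Agent.H11Aff Groth.Agent.H11Tilde Groth.Agent.H11Ample
open Groth.Agent.H7Lim.Approx

namespace Groth.Agent.H11Cone

section general

variable {V C' C : Scheme.{u}} (q' : V ⟶ C')

/-- Surjective morphisms injective on functions are epimorphisms. -/
theorem eq_of_comp_eq [Surjective q'] (hinj : ∀ N, Function.Injective (q'.app N)) {a b : C' ⟶ C}
    (h : q' ≫ a = q' ≫ b) : a = b := by
  have hbase : ∀ w, a w = b w := fun w => by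
    obtain ⟨v, rfl⟩ := q'.surjective w
    rw [← Scheme.Hom.comp_apply, h, Scheme.Hom.comp_apply]
  refine Scheme.Cover.hom_ext (C'.openCoverOfIsOpenCover _
    (.comap (iSup_affineOpens_eq_top C) a.base.hom)) _ _ fun W ↦ ?_
  have eb : a ⁻¹ᵁ W.1 ≤ b ⁻¹ᵁ W.1 := fun w hw => show b w ∈ W.1 from hbase w ▸ hw
  have key : ∀ (k : C' ⟶ C) (e : a ⁻¹ᵁ W.1 ≤ k ⁻¹ᵁ W.1), (a ⁻¹ᵁ W.1).ι ≫ k =
      (a ⁻¹ᵁ W.1).toSpecΓ ≫ Spec.map (k.appLE _ _ e) ≫ W.2.fromSpec := by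
    intro k e
    rw [Scheme.Opens.toSpecΓ_SpecMap_appLE_assoc, IsAffineOpen.toSpecΓ_fromSpec, Scheme.Hom.resLE_comp_ι]
  have happ : a.appLE W.1 (a ⁻¹ᵁ W.1) le_rfl = b.appLE W.1 (a ⁻¹ᵁ W.1) eb := by
    ext r
    apply hinj
    change (a.appLE _ _ _ ≫ q'.app _) r = (b.appLE _ _ _ ≫ q'.app _) r
    rw [Scheme.Hom.app_eq_appLE, Scheme.Hom.appLE_comp_appLE, Scheme.Hom.appLE_comp_appLE]
    simp only [h]
  change (a ⁻¹ᵁ W.1).ι ≫ a = (a ⁻¹ᵁ W.1).ι ≫ b
  rw [key a le_rfl, key b eb, happ]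

/-- Morphisms constant on the fibres of a closed surjection preserving functions descend along it. -/
theorem existsUnique_factor [Surjective q'] (hcl : IsClosedMap q'.base)
    (hbij : ∀ N, Function.Bijective (q'.app N)) (q : V ⟶ C) (hconst : ∀ v v', q' v = q' v' → q v = q v') :
    ∃! u : C' ⟶ C, q' ≫ u = q := by
  have hsurj := q'.surjective
  have hopen : ∀ W : C.Opens, ∃ N : C'.Opens, q' ⁻¹ᵁ N = q ⁻¹ᵁ W := fun W => by
    refine ⟨⟨(q'.base '' (q.base ⁻¹' W)ᶜ)ᶜ, (hcl _ (W.2.preimage q.continuous).isClosed_compl).isOpen_compl⟩, ?_⟩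
    ext v
    refine ⟨fun hv => ?_, fun hv => ?_⟩
    · by_contra hn
      exact hv ⟨v, hn, rfl⟩
    · rintro ⟨v', hv', he⟩
      refine hv' ?_
      show q v' ∈ W
      rw [hconst v' v he]
      exact hv
  choose N hN using fun W : C.affineOpens => hopen W.1
  have hcov : IsOpenCover N := by
    rw [IsOpenCover, eq_top_iff]
    intro w _
    obtain ⟨v, rfl⟩ := hsurj w
    obtain ⟨W, hW⟩ := Opens.mem_iSup.1 ((iSup_affineOpens_eq_top C).ge (trivial : q v ∈ (⊤ : C.Opens)))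
    exact Opens.mem_iSup.2 ⟨W, show v ∈ q' ⁻¹ᵁ N W by rw [hN]; exact hW⟩
  haveI hiso : ∀ W : C.affineOpens, IsIso (q'.app (N W)) := fun W =>
    (ConcreteCategory.isIso_iff_bijective _).2 (hbij _)
  let uW : ∀ W : C.affineOpens, (N W).toScheme ⟶ C := fun W =>
    (N W).toSpecΓ ≫ Spec.map (q.appLE W.1 (q' ⁻¹ᵁ N W) (hN W).le ≫ inv (q'.app (N W))) ≫ W.2.fromSpec
  have huW : ∀ W, (q' ∣_ N W) ≫ uW W = (q' ⁻¹ᵁ N W).ι ≫ q := fun W => by
    have h1 : (q' ∣_ N W) ≫ (N W).toSpecΓ = (q' ⁻¹ᵁ N W).toSpecΓ ≫ Spec.map (q'.app (N W)) := by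
      rw [Scheme.Hom.app_eq_appLE, Scheme.Opens.toSpecΓ_SpecMap_appLE, Scheme.Hom.resLE_eq_morphismRestrict]
    simp only [uW]
    rw [reassoc_of% h1, ← Spec.map_comp_assoc, Category.assoc, IsIso.inv_hom_id, Category.comp_id,
      Scheme.Opens.toSpecΓ_SpecMap_appLE_assoc, IsAffineOpen.toSpecΓ_fromSpec, Scheme.Hom.resLE_comp_ι]
  have hres : ∀ W : C.affineOpens, ∀ (M : C'.Opens) (hM : M ≤ N W),
      (q' ∣_ M) ≫ C'.homOfLE hM ≫ uW W = (q' ⁻¹ᵁ M).ι ≫ q := fun W M hM => by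
    have h2 : (q' ∣_ M) ≫ C'.homOfLE hM = V.homOfLE (q'.preimage_mono hM) ≫ (q' ∣_ N W) := by
      rw [← cancel_mono (N W).ι]
      simp only [Category.assoc, Scheme.homOfLE_ι, morphismRestrict_ι, Scheme.homOfLE_ι_assoc]
    rw [reassoc_of% h2, huW, Scheme.homOfLE_ι_assoc]
  have hagree : ∀ W W', C'.homOfLE (inf_le_left : N W ⊓ N W' ≤ N W) ≫ uW W =
      C'.homOfLE (inf_le_right : N W ⊓ N W' ≤ N W') ≫ uW W' := fun W W' => by
    haveI : Surjective (q' ∣_ (N W ⊓ N W')) := IsZariskiLocalAtTarget.restrict (P := @Surjective) inferInstance _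
    refine eq_of_comp_eq (q' ∣_ (N W ⊓ N W')) (fun O => ?_) ((hres W _ inf_le_left).trans (hres W' _ inf_le_right).symm)
    rw [morphismRestrict_app]
    exact fun x y h => (hbij _).1 ((ConcreteCategory.bijective_of_isIso (V.presheaf.map (eqToHom
      (image_morphismRestrict_preimage q' (N W ⊓ N W') O)).op)).1 h)
  refine ⟨Scheme.Cover.glueMorphisms (C'.openCoverOfIsOpenCover N hcov) uW (fun W W' => ?_), ?_, fun u' hu' => ?_⟩
  · have e1 : (pullback.fst (N W).ι (N W').ι) =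
        (IsPullback.isoPullback (isPullback_opens_inf (N W) (N W'))).inv ≫
          C'.homOfLE (inf_le_left : N W ⊓ N W' ≤ N W) :=
      (IsPullback.isoPullback_inv_fst _).symm
    have e2 : (pullback.snd (N W).ι (N W').ι) =
        (IsPullback.isoPullback (isPullback_opens_inf (N W) (N W'))).inv ≫
          C'.homOfLE (inf_le_right : N W ⊓ N W' ≤ N W') :=
      (IsPullback.isoPullback_inv_snd _).symm
    change pullback.fst (N W).ι (N W').ι ≫ uW W = pullback.snd (N W).ι (N W').ι ≫ uW W'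
    rw [e1, e2, Category.assoc, Category.assoc, hagree]
  · refine Scheme.Cover.hom_ext (V.openCoverOfIsOpenCover _ (.comap hcov q'.base.hom)) _ _ fun W => ?_
    change (q' ⁻¹ᵁ N W).ι ≫ q' ≫ _ = (q' ⁻¹ᵁ N W).ι ≫ q
    rw [← morphismRestrict_ι_assoc, ← huW W]
    exact congrArg ((q' ∣_ N W) ≫ ·) (Scheme.Cover.ι_glueMorphisms (C'.openCoverOfIsOpenCover N hcov) uW _ W)
  · refine eq_of_comp_eq q' (fun O => (hbij O).1) (hu'.trans ?_)
    refine Scheme.Cover.hom_ext (V.openCoverOfIsOpenCover _ (.comap hcov q'.base.hom)) _ _ fun W => ?_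
    change (q' ⁻¹ᵁ N W).ι ≫ q = (q' ⁻¹ᵁ N W).ι ≫ q' ≫ _
    rw [← morphismRestrict_ι_assoc, ← huW W]
    exact (congrArg ((q' ∣_ N W) ≫ ·) (Scheme.Cover.ι_glueMorphisms (C'.openCoverOfIsOpenCover N hcov) uW _ W)).symm

/-- Bijectivity on functions over a basis gives it over all opens. -/
theorem bijective_app_of_basis (B : C'.Opens → Prop)
    (hB : ∀ (O : C'.Opens) (w : C'), w ∈ O → ∃ M, B M ∧ w ∈ M ∧ M ≤ O)
    (h : ∀ M, B M → Function.Bijective (q'.app M)) (O : C'.Opens) : Function.Bijective (q'.app O) := by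
  have hres : ∀ {O O' : C'.Opens} (i : O' ≤ O) (x : Γ(C', O)),
      q'.app O' (C'.presheaf.map (homOfLE i).op x) =
        V.presheaf.map (homOfLE (q'.preimage_mono i)).op (q'.app O x) := fun i x =>
    ConcreteCategory.congr_hom (q'.naturality (homOfLE i).op) x
  have hinj : ∀ O : C'.Opens, Function.Injective (q'.app O) := fun O x y hxy => by
    refine C'.sheaf.eq_of_locally_eq' (fun M : {M : C'.Opens // B M ∧ M ≤ O} => M.1) O (fun M => homOfLE M.2.2)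
      (fun w hw => ?_) x y fun M => (h _ M.2.1).1 ?_
    · obtain ⟨M, hM, hwM, hle⟩ := hB O w hw
      exact Opens.mem_iSup.2 ⟨⟨M, hM, hle⟩, hwM⟩
    · exact (hres M.2.2 x).trans ((congrArg _ hxy).trans (hres M.2.2 y).symm)
  refine ⟨hinj O, fun t => ?_⟩
  choose s hs using fun M : {M : C'.Opens // B M ∧ M ≤ O} =>
    (h M.1 M.2.1).2 (V.presheaf.map (homOfLE (q'.preimage_mono M.2.2)).op t)
  have hcomp : TopCat.Presheaf.IsCompatible C'.presheaf (fun M : {M : C'.Opens // B M ∧ M ≤ O} => M.1) s := by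
    intro M M'
    apply hinj
    refine (hres inf_le_left (s M)).trans (Eq.trans ?_ (hres inf_le_right (s M')).symm)
    rw [hs, hs]
    simp only [← CommRingCat.comp_apply, ← Functor.map_comp]
    rfl
  obtain ⟨x, hx, -⟩ := TopCat.Sheaf.existsUnique_gluing' C'.sheaf (fun M : {M : C'.Opens // B M ∧ M ≤ O} => M.1) O
    (fun M => homOfLE M.2.2) (fun w hw => by
      obtain ⟨M, hM, hwM, hle⟩ := hB O w hw
      exact Opens.mem_iSup.2 ⟨⟨M, hM, hle⟩, hwM⟩) s hcomp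
  refine ⟨x, V.sheaf.eq_of_locally_eq' (fun M : {M : C'.Opens // B M ∧ M ≤ O} => q' ⁻¹ᵁ M.1) (q' ⁻¹ᵁ O)
    (fun M => homOfLE (q'.preimage_mono M.2.2)) (fun v hv => ?_) _ _ fun M => ?_⟩
  · obtain ⟨M, hM, hwM, hle⟩ := hB O _ hv
    exact Opens.mem_iSup.2 ⟨⟨M, hM, hle⟩, hwM⟩
  · exact (hres M.2.2 x).symm.trans ((congrArg _ (hx M)).trans (hs M))

end general

variable {X Y : Scheme.{u}} {L : X.Modules}

/-- The properties of an affinisation of the line bundle over the base. -/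
theorem affinization_props (D : LB L) (p : X ⟶ Y) [IsProper p] (hθ : IsIso p.c)
    (hamp : RelAmple.IsRelAmple p L)
    {C' : Scheme.{u}} (g' : C' ⟶ Y) [IsAffineHom g'] (q' : D.A.spec ⟶ C') (hq'g : q' ≫ g' = D.A.π ≫ p)
    (hbij : ∀ U : Y.affineOpens, Function.Bijective
      (q'.appLE (g' ⁻¹ᵁ U.1) ((D.A.π ≫ p) ⁻¹ᵁ U.1) (preimage_le g' (D.A.π ≫ p) hq'g _))) :
    ∃ (ε' : Y ⟶ C'), ε' ≫ g' = 𝟙 Y ∧ D.j0 ≫ q' = p ≫ ε' ∧ IsProper q' ∧ Surjective q' ∧ Surjective p ∧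
      (∀ O, Function.Bijective (q'.app O)) ∧
      (∀ V0 : D.A.spec.Opens, (V0 : Set D.A.spec) = (Set.range D.j0)ᶜ →
        IsOpenImmersion (V0.ι ≫ q') ∧ Set.range (V0.ι ≫ q').base = (Set.range ε'.base)ᶜ) ∧
      Set.range ε'.base = q'.base '' Set.range D.j0.base := by
  have hjp : D.j0 ≫ D.A.π ≫ p = p := by rw [← Category.assoc, D.j0_π, Category.id_comp]
  have hpapp : ∀ U : Y.Opens, IsIso (p.app U) := fun U => by
    haveI := hθ
    exact inferInstanceAs (IsIso (p.c.app (op U)))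
  haveI hpappA : ∀ U : Y.affineOpens, IsIso (p.app U.1) := fun U => hpapp U.1
  have hψ0 : ∀ U : Y.affineOpens, ∃ ψ : Γ(C', g' ⁻¹ᵁ U.1) ⟶ Γ(Y, U.1), ψ ≫ p.app U.1 =
      q'.appLE (g' ⁻¹ᵁ U.1) ((D.A.π ≫ p) ⁻¹ᵁ U.1) (preimage_le g' _ hq'g _) ≫
        D.j0.appLE ((D.A.π ≫ p) ⁻¹ᵁ U.1) (p ⁻¹ᵁ U.1) (preimage_le (D.A.π ≫ p) p hjp _) := fun U =>
    ⟨(q'.appLE (g' ⁻¹ᵁ U.1) ((D.A.π ≫ p) ⁻¹ᵁ U.1) (preimage_le g' _ hq'g _) ≫
        D.j0.appLE ((D.A.π ≫ p) ⁻¹ᵁ U.1) (p ⁻¹ᵁ U.1) (preimage_le (D.A.π ≫ p) p hjp _)) ≫ inv (p.app U.1),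
      by rw [Category.assoc, IsIso.inv_hom_id, Category.comp_id]⟩
  choose ψ hψ using hψ0
  let φ : ∀ U : Y.affineOpens, Γ(C', g' ⁻¹ᵁ U.1) ⟶ Γ(Y, (𝟙 Y : Y ⟶ Y) ⁻¹ᵁ U.1) := ψ
  have hψY : ∀ U : Y.affineOpens, g'.app U.1 ≫ ψ U = 𝟙 Γ(Y, U.1) := fun U => by
    rw [← cancel_mono (p.app U.1), Category.assoc, hψ, Scheme.Hom.app_eq_appLE g',
      Scheme.Hom.appLE_comp_appLE_assoc, Scheme.Hom.appLE_comp_appLE, Category.id_comp, Scheme.Hom.app_eq_appLE]
    simp only [hq'g, hjp]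
  have hψn : ∀ (U : Y.affineOpens) (r : Γ(Y, U.1)),
      ψ U ≫ Y.presheaf.map (homOfLE (Y.basicOpen_le r)).op =
        C'.presheaf.map (homOfLE (g'.preimage_mono (Y.basicOpen_le r))).op ≫ ψ ⟨Y.basicOpen r, U.2.basicOpen r⟩ :=
    fun U r => by
    haveI : IsIso (p.app (Y.basicOpen r)) := hpapp _
    rw [← cancel_mono (p.app (Y.basicOpen r))]
    simp only [Category.assoc]
    erw [hψ ⟨Y.basicOpen r, U.2.basicOpen r⟩]
    rw [Scheme.Hom.naturality, reassoc_of% (hψ U), Scheme.Hom.appLE_map, Scheme.Hom.appLE_comp_appLE,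
      Scheme.Hom.map_appLE_assoc, Scheme.Hom.appLE_comp_appLE]
  obtain ⟨ε', hε'g, hε'app⟩ := exists_hom_of_app g' (𝟙 Y) φ (fun U ↦ by
      rw [Scheme.Hom.id_app]
      exact hψY U)
    (fun U r ↦ hψn U r)
  have hj : D.j0 ≫ q' = p ≫ ε' := by
    refine hom_ext_app g' p (by rw [Category.assoc, hq'g, hjp]) (by rw [Category.assoc, hε'g, Category.comp_id])
      fun U => ?_
    rw [← Scheme.Hom.appLE_comp_appLE D.j0 q' (g' ⁻¹ᵁ U.1) ((D.A.π ≫ p) ⁻¹ᵁ U.1) (p ⁻¹ᵁ U.1)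
        (preimage_le g' _ hq'g _) (preimage_le (D.A.π ≫ p) p hjp _),
      ← Scheme.Hom.appLE_comp_appLE p ε' (g' ⁻¹ᵁ U.1) U.1 (p ⁻¹ᵁ U.1) (preimage_le g' (𝟙 Y) hε'g _) le_rfl,
      show ε'.appLE (g' ⁻¹ᵁ U.1) U.1 _ = ψ U from hε'app U, ← Scheme.Hom.app_eq_appLE]
    exact (hψ U).symm
  have hlift : ∀ U : Y.affineOpens, ∀ (a : Γ(D.A.spec, (D.A.π ≫ p) ⁻¹ᵁ U.1)) (b : Γ(Y, U.1)),
      (jU (D.A.π ≫ p) p D.j0 hjp U.1 a = p.app U.1 b) →
      ∃! z : Γ(C', g' ⁻¹ᵁ U.1),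
        q'.appLE (g' ⁻¹ᵁ U.1) ((D.A.π ≫ p) ⁻¹ᵁ U.1) (preimage_le g' (D.A.π ≫ p) hq'g _) z = a ∧
          ε'.appLE (g' ⁻¹ᵁ U.1) U.1 (preimage_le g' (𝟙 Y) hε'g _) z = b := by
    intro U a b hab
    obtain ⟨z, hz⟩ := (hbij U).2 a
    refine ⟨z, ⟨hz, ?_⟩, fun z' hz' => (hbij U).1 (hz'.1.trans hz.symm)⟩
    rw [show ε'.appLE (g' ⁻¹ᵁ U.1) U.1 _ = ψ U from hε'app U]
    apply (ConcreteCategory.bijective_of_isIso (p.app U.1)).1
    rw [← CommRingCat.comp_apply, hψ U, CommRingCat.comp_apply, hz]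
    exact hab
  let V1 : D.A.spec.Opens := ⟨(Set.range D.j0)ᶜ, by
    haveI : IsClosedImmersion (D.j0 ≫ D.A.π) := D.j0_π ▸ inferInstance
    haveI := IsClosedImmersion.of_comp D.j0 D.A.π
    exact D.j0.isClosedEmbedding.isClosed_range.isOpen_compl⟩
  obtain ⟨-, -, -, hprop⟩ := contraction_props D p hamp V1 rfl hjp g' ε' q' hε'g hq'g hj hlift
  haveI hpsurj : Surjective p := by
    refine ⟨fun y => ?_⟩
    by_contra hy
    obtain ⟨U, hU, hyU, hUle⟩ := exists_affine_mem_le (S := Y)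
      (W := ⟨(Set.range p.base)ᶜ, p.isClosedMap.isClosed_range.isOpen_compl⟩) (s := y) hy
    have hempty : p ⁻¹ᵁ U = ⊥ := le_bot_iff.1 fun x hx => hUle hx ⟨x, rfl⟩
    have h1 : X.basicOpen (p.app U 1) = ⊥ := le_bot_iff.1 ((X.basicOpen_le _).trans hempty.le)
    have h2 : IsNilpotent (p.app U 1) :=
      (Scheme.isNilpotent_iff_basicOpen_eq_bot_of_isCompact (p.isCompact_preimage hU.isCompact) _).2 h1
    rw [map_one] at h2
    obtain ⟨k, hk⟩ := h2
    rw [one_pow] at hk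
    have h3 : (1 : Γ(Y, U)) = 0 := (ConcreteCategory.bijective_of_isIso (p.app U)).1 (by
      rw [map_one, map_zero]; exact hk)
    have h4 : Y.basicOpen (1 : Γ(Y, U)) = ⊥ := by rw [h3, Scheme.basicOpen_zero]
    rw [Scheme.basicOpen_of_isUnit _ isUnit_one] at h4
    exact h4.le hyU
  obtain ⟨hqp, hr⟩ := hprop inferInstance
  have hrε : Set.range ε'.base = q'.base '' Set.range D.j0.base := by
    ext w
    constructor
    · rintro ⟨y, rfl⟩
      obtain ⟨x, rfl⟩ := p.surjective y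
      exact ⟨D.j0 x, ⟨x, rfl⟩, by rw [← Scheme.Hom.comp_apply, hj, Scheme.Hom.comp_apply]⟩
    · rintro ⟨_, ⟨x, rfl⟩, rfl⟩
      exact ⟨p x, by rw [← Scheme.Hom.comp_apply, ← hj, Scheme.Hom.comp_apply]⟩
  have hsurj : Surjective q' := by
    refine ⟨fun w => ?_⟩
    by_cases hw : w ∈ Set.range ε'.base
    · obtain ⟨v, -, hv⟩ := hrε.le hw
      exact ⟨v, hv⟩
    · obtain ⟨v, hv⟩ := hr.ge hw
      exact ⟨v.1, hv⟩
  refine ⟨ε', hε'g, hj, hqp, hsurj, hpsurj, ?_, fun V0 hV0 => ?_, hrε⟩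
  · refine bijective_app_of_basis q'
      (fun M => ∃ (U : Y.affineOpens) (w : Γ(C', g' ⁻¹ᵁ U.1)), M = C'.basicOpen w) (fun O w hw => ?_) ?_
    · obtain ⟨U, hU⟩ := Opens.mem_iSup.1 ((iSup_affineOpens_eq_top Y).ge (trivial : g' w ∈ (⊤ : Y.Opens)))
      obtain ⟨r, hr, hwr⟩ := (U.2.preimage g').exists_basicOpen_le (V := O) ⟨w, hw⟩ hU
      exact ⟨_, ⟨U, r, rfl⟩, hwr, hr⟩
    · rintro M ⟨U, w, rfl⟩
      haveI := (U.2.preimage g').isLocalization_basicOpen w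
      have hpre : q' ⁻¹ᵁ (g' ⁻¹ᵁ U.1) = (D.A.π ≫ p) ⁻¹ᵁ U.1 := by rw [← Scheme.Hom.comp_preimage, hq'g]
      have hb' : Function.Bijective (q'.app (g' ⁻¹ᵁ U.1)) := by
        have key : ∀ (O : D.A.spec.Opens) (e : O ≤ q' ⁻¹ᵁ (g' ⁻¹ᵁ U.1)), O = q' ⁻¹ᵁ (g' ⁻¹ᵁ U.1) →
            Function.Bijective (q'.appLE _ O e) → Function.Bijective (q'.app (g' ⁻¹ᵁ U.1)) := by
          rintro O e rfl h
          rwa [Scheme.Hom.app_eq_appLE]
        exact key _ _ hpre.symm (hbij U)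
      have hloc := isLocalization_basicOpen_of_qcqs
        (q'.isCompact_preimage (U := g' ⁻¹ᵁ U.1) (U.2.preimage g').isCompact)
        (q'.isQuasiSeparated_preimage (U := g' ⁻¹ᵁ U.1) (U.2.preimage g').isQuasiSeparated)
        (q'.app (g' ⁻¹ᵁ U.1) w)
      have hp' : q' ⁻¹ᵁ C'.basicOpen w = D.A.spec.basicOpen (q'.app _ w) := q'.preimage_basicOpen w
      let σ := q'.app (g' ⁻¹ᵁ U.1)
      have hsq : ∀ r, q'.appLE (C'.basicOpen w) (D.A.spec.basicOpen (σ w)) hp'.ge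
          (C'.presheaf.map (homOfLE (C'.basicOpen_le w)).op r) =
          D.A.spec.presheaf.map (homOfLE (D.A.spec.basicOpen_le _)).op (σ r) := fun r => by
        change (C'.presheaf.map _ ≫ q'.appLE _ _ _) r = (q'.app _ ≫ D.A.spec.presheaf.map _) r
        rw [Scheme.Hom.map_appLE]
        rfl
      have hfin : Function.Bijective (q'.appLE (C'.basicOpen w) (D.A.spec.basicOpen (σ w)) hp'.ge) := by
        let σe := RingEquiv.ofBijective σ.hom hb'
        have hmap : (Submonoid.powers w).map σe.toMonoidHom = Submonoid.powers (σ w) := by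
          rw [Submonoid.map_powers]
          rfl
        let E := IsLocalization.ringEquivOfRingEquiv (M := Submonoid.powers w) (T := Submonoid.powers (σ w))
          Γ(C', C'.basicOpen w) Γ(D.A.spec, D.A.spec.basicOpen (σ w)) σe hmap
        have hE : (q'.appLE (C'.basicOpen w) (D.A.spec.basicOpen (σ w)) hp'.ge).hom = E.toRingHom := by
          refine IsLocalization.ringHom_ext (Submonoid.powers w) (RingHom.ext fun r => ?_)
          exact (hsq r).trans (IsLocalization.ringEquivOfRingEquiv_eq hmap r).symm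
        change Function.Bijective (q'.appLE (C'.basicOpen w) (D.A.spec.basicOpen (σ w)) hp'.ge).hom
        rw [hE]
        exact E.bijective
      have key2 : ∀ (O : D.A.spec.Opens) (e : O ≤ q' ⁻¹ᵁ C'.basicOpen w), O = q' ⁻¹ᵁ C'.basicOpen w →
          Function.Bijective (q'.appLE _ O e) → Function.Bijective (q'.app (C'.basicOpen w)) := by
        rintro O e rfl h
        rwa [Scheme.Hom.app_eq_appLE]
      exact key2 _ _ hp'.symm hfin
  · obtain ⟨h1, -, -, hp2⟩ := contraction_props D p hamp V0 hV0 hjp g' ε' q' hε'g hq'g hj hlift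
    exact ⟨h1, (hp2 inferInstance).2⟩

end Groth.Agent.H11Cone
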