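import Mathlib.AlgebraicGeometry.ProjectiveSpectrum.Functor
import Mathlib.RingTheory.GradedAlgebra.Homogeneous.Ideal
import Mathlib.AlgebraicGeometry.Morphisms.UnderlyingMap

/-!
# The canonical retraction `Spec A_f → Spec A_(f)` on points
-/

set_option autoImplicit false
universe u

namespace Groth.Agent.H11Cone.ConeRetr

open CategoryTheory AlgebraicGeometry HomogeneousLocalization

variable {A σ : Type u} [CommRing A] [SetLike σ A] [AddSubgroupClass σ A] (𝒜 : ℕ → σ) [GradedRing 𝒜]
  {d : ℕ} {f : A} (hf : f ∈ 𝒜 d) (hd : 0 < d)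

include hf hd in
/-- `Spec A_f → Spec A_(f)` is surjective. -/
theorem surjective_specMap :
    Surjective (Spec.map (CommRingCat.ofHom (algebraMap (Away 𝒜 f) (Localization.Away f)))) := by
  refine ⟨fun q => ?_⟩
  obtain ⟨x, hx⟩ := ProjIsoSpecTopComponent.toSpec_surjective 𝒜 hf hd q
  refine ⟨⟨x.1.asHomogeneousIdeal.toIdeal.map (algebraMap A (Localization.Away f)), ?_⟩, ?_⟩
  · exact IsLocalization.isPrime_of_isPrime_disjoint (Submonoid.powers f) _ _ x.1.isPrime
      ((Ideal.disjoint_powers_iff_notMem_of_isPrime _).2 x.2)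
  · exact (PrimeSpectrum.ext rfl).trans hx

/-- The image in `Proj A` of a point of `Spec A_f`. -/
noncomputable def img (P : Spec (CommRingCat.of (Localization.Away f))) : Proj 𝒜 :=
  Proj.awayι 𝒜 f hf hd (Spec.map (CommRingCat.ofHom (algebraMap (Away 𝒜 f) (Localization.Away f))) P)

/-- The point of `Spec A` under a point of `Spec A_f`. -/
noncomputable def down (P : Spec (CommRingCat.of (Localization.Away f))) : Spec (CommRingCat.of A) :=
  Spec.map (CommRingCat.ofHom (algebraMap A (Localization.Away f))) P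

theorem self_notMem_down (P : Spec (CommRingCat.of (Localization.Away f))) : f ∉ (down P).asIdeal := fun hm =>
  P.isPrime.ne_top (Ideal.eq_top_of_isUnit_mem _ hm (IsLocalization.Away.algebraMap_isUnit f))

theorem mem_basicOpen_img_iff {e : ℕ} {g : A} (hg : g ∈ 𝒜 e) (he : 0 < e)
    (P : Spec (CommRingCat.of (Localization.Away f))) :
    img 𝒜 hf hd P ∈ Proj.basicOpen 𝒜 g ↔ g ∉ (down P).asIdeal := by
  change Spec.map _ P ∈ Proj.awayι 𝒜 f hf hd ⁻¹ᵁ Proj.basicOpen 𝒜 g ↔ _
  rw [Proj.awayι_preimage_basicOpen 𝒜 hf hd hg he]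
  change algebraMap (Away 𝒜 f) (Localization.Away f) (Away.isLocalizationElem hf hg) ∉ P.asIdeal ↔
    algebraMap A (Localization.Away f) g ∉ P.asIdeal
  rw [not_iff_not, HomogeneousLocalization.algebraMap_apply, Away.isLocalizationElem, Away.val_mk,
    Localization.mk_eq_mk', ← Ideal.mul_unit_mem_iff_mem P.asIdeal
      (IsLocalization.map_units (Localization.Away f) (⟨f ^ e, pow_mem (Submonoid.mem_powers _) e⟩ : Submonoid.powers f)),
    IsLocalization.mk'_spec, map_pow, P.isPrime.pow_mem_iff_mem d hd]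

theorem mem_img_iff {e : ℕ} {g : A} (hg : g ∈ 𝒜 e) (P : Spec (CommRingCat.of (Localization.Away f))) :
    g ∈ (img 𝒜 hf hd P).asHomogeneousIdeal.toIdeal ↔ g ∈ (down P).asIdeal := by
  have hff : f ∉ (img 𝒜 hf hd P).asHomogeneousIdeal.toIdeal :=
    (mem_basicOpen_img_iff 𝒜 hf hd hf hd P).2 (self_notMem_down P)
  have h := mem_basicOpen_img_iff 𝒜 hf hd (SetLike.mul_mem_graded hg hf) (Nat.add_pos_right e hd) P
  change g * f ∉ (img 𝒜 hf hd P).asHomogeneousIdeal.toIdeal ↔ _ at h
  rw [not_iff_not, (img 𝒜 hf hd P).isPrime.mul_mem_iff_mem_or_mem, (down P).isPrime.mul_mem_iff_mem_or_mem,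
    or_iff_left hff, or_iff_left (self_notMem_down P)] at h
  exact h

/-- The image is the homogeneous core. -/
theorem img_eq_homogeneousCore (P : Spec (CommRingCat.of (Localization.Away f))) :
    (img 𝒜 hf hd P).asHomogeneousIdeal = (down P).asIdeal.homogeneousCore 𝒜 := by
  refine HomogeneousIdeal.ext' fun i a ha => ?_
  exact (mem_img_iff 𝒜 hf hd ha P).trans
    ⟨fun h => Ideal.mem_homogeneousCore_of_homogeneous_of_mem ⟨i, ha⟩ h,
      fun h => Ideal.toIdeal_homogeneousCore_le 𝒜 _ h⟩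

end Groth.Agent.H11Cone.ConeRetr
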