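import Groth.Agent.H7Lim.Approx.SubSpec

/-!
# Gluing a scheme along an affinisation: the spectrum of `h_* O ×_{p_* O} O`
-/

set_option autoImplicit false
set_option backward.isDefEq.respectTransparency false
set_option linter.style.haveILetI false

universe u

open AlgebraicGeometry CategoryTheory CategoryTheory.Limits Opposite TopologicalSpace
open AlgebraicGeometry.Scheme Groth.Agent.H7Lim.Approx

namespace Groth.Agent.H11Cone

variable {V X Y : Scheme.{u}} (h0 : V ⟶ Y) (p : X ⟶ Y) (j : X ⟶ V) (hj : j ≫ h0 = p)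

/-- Pull back along `j` over an open of the base. -/
noncomputable abbrev jU (U : Y.Opens) : Γ(V, h0 ⁻¹ᵁ U) →+* Γ(X, p ⁻¹ᵁ U) :=
  (j.appLE (h0 ⁻¹ᵁ U) (p ⁻¹ᵁ U) (preimage_le h0 p hj U)).hom

theorem jU_res {U U' : Y.Opens} (h : U' ≤ U) (a : Γ(V, h0 ⁻¹ᵁ U)) :
    jU h0 p j hj U' (rX h0 h a) = rX p h (jU h0 p j hj U a) := by
  change (V.presheaf.map _ ≫ j.appLE _ _ _) a = (j.appLE _ _ _ ≫ X.presheaf.map _) a
  rw [Scheme.Hom.map_appLE, Scheme.Hom.appLE_map]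

theorem jU_app (U : Y.Opens) (b : Γ(Y, U)) : jU h0 p j hj U (h0.app U b) = p.app U b := by
  change (h0.app U ≫ j.appLE _ _ _) b = p.app U b
  rw [Scheme.Hom.app_eq_appLE, Scheme.Hom.app_eq_appLE, Scheme.Hom.appLE_comp_appLE]
  subst hj
  rfl

/-- The fibre product of rings over an affine open. -/
def fibRing (U : Y.Opens) : Subring (Γ(V, h0 ⁻¹ᵁ U) × Γ(Y, U)) where
  carrier := {ab | jU h0 p j hj U ab.1 = p.app U ab.2}
  mul_mem' {a b} ha hb := by
    show jU h0 p j hj U (a.1 * b.1) = p.app U (a.2 * b.2)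
    rw [map_mul, map_mul, ha, hb]
  one_mem' := by
    show jU h0 p j hj U 1 = p.app U 1
    rw [map_one, map_one]
  add_mem' {a b} ha hb := by
    show jU h0 p j hj U (a.1 + b.1) = p.app U (a.2 + b.2)
    rw [map_add, map_add, ha, hb]
  zero_mem' := by
    show jU h0 p j hj U 0 = p.app U 0
    rw [map_zero, map_zero]
  neg_mem' {a} ha := by
    show jU h0 p j hj U (-a.1) = p.app U (-a.2)
    rw [map_neg, map_neg, ha]

theorem res_mem_fibRing {U U' : Y.Opens} (h : U' ≤ U) {ab : Γ(V, h0 ⁻¹ᵁ U) × Γ(Y, U)}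
    (hab : ab ∈ fibRing h0 p j hj U) : (RingHom.prodMap (rX h0 h) (rY h)) ab ∈ fibRing h0 p j hj U' := by
  show jU h0 p j hj U' (rX h0 h ab.1) = p.app U' (rY h ab.2)
  rw [jU_res, ← rX_app, show jU h0 p j hj U ab.1 = p.app U ab.2 from hab]

/-- The presheaf on the affine site. -/
noncomputable def fibPre : Y.AffineZariskiSiteᵒᵖ ⥤ CommRingCat.{u} where
  obj U := CommRingCat.of (fibRing h0 p j hj U.unop.1)
  map {U U'} i := CommRingCat.ofHom
    ((RingHom.prodMap (rX h0 (AffineZariskiSite.toOpens_mono i.unop.le)) (rY (AffineZariskiSite.toOpens_mono i.unop.le))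
      ).restrict (fibRing h0 p j hj U.unop.1) (fibRing h0 p j hj U'.unop.1) fun _ hx ↦ res_mem_fibRing h0 p j hj _ hx)
  map_id U := CommRingCat.hom_ext (RingHom.ext fun x ↦ Subtype.ext (Prod.ext (by exact rX_refl h0 _)
    (by exact ConcreteCategory.congr_hom (Y.presheaf.map_id (op U.unop.1)) x.1.2)))
  map_comp i k := CommRingCat.hom_ext (RingHom.ext fun x ↦ Subtype.ext (Prod.ext (by exact (rX_rX h0 _ _ _).symm)
    (by exact ConcreteCategory.congr_hom (Y.presheaf.map_comp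
      (homOfLE (AffineZariskiSite.toOpens_mono i.unop.le)).op (homOfLE (AffineZariskiSite.toOpens_mono k.unop.le)).op) x.1.2)))

/-- Its structure map. -/
noncomputable def fibStr : (AffineZariskiSite.toOpensFunctor Y).op ⋙ Y.presheaf ⟶ fibPre h0 p j hj where
  app U := CommRingCat.ofHom
    ((RingHom.prod (h0.app U.unop.1).hom (RingHom.id _)).codRestrict (fibRing h0 p j hj U.unop.1)
      fun b => jU_app h0 p j hj _ b)
  naturality {U U'} i := by
    ext s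
    exact Subtype.ext (Prod.ext (rX_app h0 _ s).symm rfl)

variable [QuasiCompact h0] [QuasiSeparated h0] [QuasiCompact p] [QuasiSeparated p]

theorem coequifibered_fibStr : (fibStr h0 p j hj).Coequifibered := by
  refine AffineZariskiSite.coequifibered_iff_forall_isLocalizationAway.mpr fun U r ↦ ?_
  let U' : Y.affineOpens := ⟨U.1, U.2⟩
  letI : Algebra (fibRing h0 p j hj U.1) (fibRing h0 p j hj (Y.basicOpen r)) :=
    ((RingHom.prodMap (rX h0 (Y.basicOpen_le r)) (rY (Y.basicOpen_le r))).restrict (fibRing h0 p j hj U.1)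
      (fibRing h0 p j hj (Y.basicOpen r)) fun _ hx ↦ res_mem_fibRing h0 p j hj _ hx).toAlgebra
  show IsLocalization.Away (⟨(h0.app U.1 r, r), jU_app h0 p j hj _ r⟩ : fibRing h0 p j hj U.1)
    (fibRing h0 p j hj (Y.basicOpen r))
  refine IsLocalization.Away.mk _ ?_ (fun y ↦ ?_) fun a b hab ↦ ?_
  · obtain ⟨v, hv⟩ : ∃ v : Γ(Y, Y.basicOpen r), v * rY (Y.basicOpen_le r) r = 1 :=
      (RingedSpace.isUnit_res_basicOpen _ r).exists_left_inv
    refine IsUnit.of_mul_eq_one ⟨(h0.app _ v, v), jU_app h0 p j hj _ v⟩ (Subtype.ext (Prod.ext ?_ ?_))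
    · show rX h0 _ (h0.app U.1 r) * h0.app _ v = 1
      rw [rX_app, mul_comm, ← map_mul]
      exact (congrArg _ hv).trans (map_one _)
    · show rY _ r * v = 1
      rw [mul_comm]
      exact hv
  · obtain ⟨⟨a, b⟩, hab⟩ := y
    obtain ⟨n₁, a₁, -, e₁⟩ := (Sub.top h0).exists_mul U' r a trivial
    have hloc := U.2.isLocalization_basicOpen r
    obtain ⟨⟨b₂, _, n₂, rfl⟩, e₂⟩ := IsLocalization.surj (Submonoid.powers r) b
    have e₂' : rY (Y.basicOpen_le r) b₂ = b * rY (Y.basicOpen_le r) (r ^ n₂) := e₂.symm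
    let a' := a₁ * h0.app U.1 r ^ n₂
    let b' := b₂ * r ^ n₁
    have ea : rX h0 (Y.basicOpen_le r) a' = a * rX h0 (Y.basicOpen_le r) (h0.app U.1 r ^ (n₁ + n₂)) := by
      refine (map_mul _ _ _).trans ?_
      refine (congrArg (· * _) e₁).trans ?_
      rw [pow_add, map_mul, mul_assoc]
    have eb : rY (Y.basicOpen_le r) b' = b * rY (Y.basicOpen_le r) (r ^ (n₁ + n₂)) := by
      simp only [b', map_mul, e₂', pow_add]
      ring
    have hd : rX p (Y.basicOpen_le r) (jU h0 p j hj U.1 a') = rX p (Y.basicOpen_le r) (p.app U.1 b') := by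
      rw [← jU_res, ea, map_mul, rX_app p, eb, map_mul, show jU h0 p j hj _ a = p.app _ b from hab,
        jU_res, map_pow, jU_app, ← rX_app, map_pow]
      simp only [map_pow]
    obtain ⟨m, hm⟩ := exists_pow_mul_eq p U' r hd
    refine ⟨n₁ + n₂ + m, ⟨(h0.app U.1 r ^ m * a', r ^ m * b'), ?_⟩, Subtype.ext (Prod.ext ?_ ?_)⟩
    · show jU h0 p j hj U.1 (h0.app U.1 r ^ m * a') = p.app U.1 (r ^ m * b')
      refine (map_mul _ _ _).trans (Eq.trans ?_ (map_mul _ _ _).symm)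
      rw [map_pow, map_pow, jU_app]
      exact hm
    · refine Eq.trans ?_ ((map_mul (rX h0 (Y.basicOpen_le r)) (h0.app U.1 r ^ m) a').trans
        (congrArg (_ * ·) ea)).symm
      show a * rX h0 (Y.basicOpen_le r) (h0.app U.1 r) ^ (n₁ + n₂ + m) = _
      simp only [map_pow, map_mul, pow_add]
      ring
    · refine Eq.trans ?_ ((map_mul (rY (Y.basicOpen_le r)) (r ^ m) b').trans (congrArg (_ * ·) eb)).symm
      show b * rY (Y.basicOpen_le r) r ^ (n₁ + n₂ + m) = _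
      simp only [map_pow, map_mul, pow_add]
      ring
  · obtain ⟨n, hn⟩ := exists_pow_mul_eq h0 U' r (congrArg (fun z => z.1.1) hab)
    have hloc := U.2.isLocalization_basicOpen r
    obtain ⟨⟨_, m, rfl⟩, hm⟩ := IsLocalization.exists_of_eq (M := Submonoid.powers r) (S := Γ(Y, Y.basicOpen r))
      (show algebraMap Γ(Y, U.1) Γ(Y, Y.basicOpen r) a.1.2 = algebraMap Γ(Y, U.1) Γ(Y, Y.basicOpen r) b.1.2 from
        congrArg (fun z => z.1.2) hab)
    refine ⟨n + m, Subtype.ext (Prod.ext ?_ ?_)⟩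
    · show h0.app U.1 r ^ (n + m) * a.1.1 = h0.app U.1 r ^ (n + m) * b.1.1
      have hn' : h0.app U.1 r ^ n * a.1.1 = h0.app U.1 r ^ n * b.1.1 := hn
      rw [add_comm, pow_add, mul_assoc, hn', mul_assoc]
    · show r ^ (n + m) * a.1.2 = r ^ (n + m) * b.1.2
      have hm' : r ^ m * a.1.2 = r ^ m * b.1.2 := hm
      rw [pow_add, mul_assoc, hm', mul_assoc]

/-- The affine `Y`-scheme `C` with a section and a map from `V` contracting `X` onto the section. -/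
theorem exists_C : ∃ (C : Scheme.{u}) (g : C ⟶ Y) (_ : IsAffineHom g) (ε : Y ⟶ C) (q : V ⟶ C)
    (hε : ε ≫ g = 𝟙 Y) (hq : q ≫ g = h0), j ≫ q = p ≫ ε ∧
    ∀ U : Y.affineOpens, ∀ (a : Γ(V, h0 ⁻¹ᵁ U.1)) (b : Γ(Y, U.1)),
      (jU h0 p j hj U.1 a = p.app U.1 b) →
      ∃! z : Γ(C, g ⁻¹ᵁ U.1), q.appLE (g ⁻¹ᵁ U.1) (h0 ⁻¹ᵁ U.1) (preimage_le g h0 hq _) z = a ∧
        ε.appLE (g ⁻¹ᵁ U.1) U.1 (preimage_le g (𝟙 Y) hε _) z = b := by
  obtain ⟨C, g, hg, θ, hθ, hθY, hθr⟩ := exists_affine_of_coequifibered (coequifibered_fibStr h0 p j hj)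
  let pr1 : ∀ U : Y.affineOpens, Γ(C, g ⁻¹ᵁ U.1) ⟶ Γ(V, h0 ⁻¹ᵁ U.1) := fun U ↦
    θ U ≫ CommRingCat.ofHom ((RingHom.fst _ _).comp (fibRing h0 p j hj U.1).subtype)
  let pr2 : ∀ U : Y.affineOpens, Γ(C, g ⁻¹ᵁ U.1) ⟶ Γ(Y, (𝟙 Y : Y ⟶ Y) ⁻¹ᵁ U.1) := fun U ↦
    θ U ≫ CommRingCat.ofHom ((RingHom.snd _ _).comp (fibRing h0 p j hj U.1).subtype)
  obtain ⟨q, hq, hq'⟩ := exists_hom_of_app g h0 pr1 (fun U ↦ by
      simp only [pr1]; rw [reassoc_of% (hθY U)]; rfl)
    (fun U r ↦ by simp only [pr1]; rw [reassoc_of% (hθr U r), Category.assoc]; rfl)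
  obtain ⟨ε, hε, hε'⟩ := exists_hom_of_app g (𝟙 Y) pr2 (fun U ↦ by
      simp only [pr2]; rw [reassoc_of% (hθY U), Scheme.Hom.id_app]; rfl)
    (fun U r ↦ by simp only [pr2]; rw [reassoc_of% (hθr U r), Category.assoc]; rfl)
  refine ⟨C, g, hg, ε, q, hε, hq, ?_, fun U a b hab => ?_⟩
  · refine hom_ext_app g p (by rw [Category.assoc, hq, hj]) (by rw [Category.assoc, hε, Category.comp_id]) fun U => ?_
    rw [← Scheme.Hom.appLE_comp_appLE j q (g ⁻¹ᵁ U.1) (h0 ⁻¹ᵁ U.1) (p ⁻¹ᵁ U.1) (preimage_le g h0 hq _)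
        (preimage_le h0 p hj _), hq',
      ← Scheme.Hom.appLE_comp_appLE p ε (g ⁻¹ᵁ U.1) U.1 (p ⁻¹ᵁ U.1) (preimage_le g (𝟙 Y) hε _) le_rfl,
      show ε.appLE (g ⁻¹ᵁ U.1) U.1 _ = pr2 U from hε' U, ← Scheme.Hom.app_eq_appLE]
    ext z
    exact ((θ U) z).2
  · haveI := hθ U
    obtain ⟨z, hz⟩ := (ConcreteCategory.bijective_of_isIso (θ U)).2 ⟨(a, b), hab⟩
    refine ⟨z, ⟨?_, ?_⟩, fun z' ⟨h1, h2⟩ => (ConcreteCategory.bijective_of_isIso (θ U)).1 ?_⟩
    · rw [hq' U]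
      exact congrArg (fun w => w.1.1) hz
    · rw [show ε.appLE (g ⁻¹ᵁ U.1) U.1 _ = pr2 U from hε' U]
      exact congrArg (fun w => w.1.2) hz
    · rw [hz]
      rw [hq' U] at h1
      rw [show ε.appLE (g ⁻¹ᵁ U.1) U.1 _ = pr2 U from hε' U] at h2
      exact Subtype.ext (Prod.ext h1 h2)

end Groth.Agent.H11Cone
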