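import Groth.Agent.H11Cone.Glue
import Groth.Agent.H11Cone.ExistsC
import Groth.Agent.H11Ample.RelAmple
import Mathlib.AlgebraicGeometry.Morphisms.OpenImmersion
import Mathlib.AlgebraicGeometry.Morphisms.Integral
import Mathlib.AlgebraicGeometry.Morphisms.Proper

/-!
# An ample module gives a contraction of the zero section of its line bundle
-/

set_option autoImplicit false
set_option linter.style.haveILetI false

noncomputable section

universe u

open CategoryTheory CategoryTheory.Limits AlgebraicGeometry Opposite TopologicalSpace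
open Groth.Agent.H11Sym Groth.Agent.H11Aff Groth.Agent.H11Tilde Groth.Agent.H11Ample
open Groth.Agent.H7Lim.Approx

namespace Groth.Agent.H11Cone

variable {X Y : Scheme.{u}} {L : X.Modules}

/-- Sections of relatively ample powers as homogeneous functions on the line bundle. -/
theorem exists_homog (D : LB L) (p : X ⟶ Y) (hamp : RelAmple.IsRelAmple p L) (x : X) :
    ∃ (U : Y.affineOpens) (n : ℕ) (a : Γ(D.A.spec, (D.A.π ≫ p) ⁻¹ᵁ U.1)), p x ∈ U.1 ∧ 0 < n ∧
      jU (D.A.π ≫ p) p D.j0 (by rw [← Category.assoc, D.j0_π, Category.id_comp]) U.1 a = 0 ∧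
      IsAffineOpen (D.A.spec.basicOpen a) ∧
      ∃ (T : X.Opens) (e : Γ(L, T)) (c : Γ(X, T)) (hle : T ≤ p ⁻¹ᵁ U.1),
        IsAffineOpen T ∧ x ∈ T ∧ IsGen L e ∧ IsUnit c ∧
        rs (show D.A.π ⁻¹ᵁ T ≤ (D.A.π ≫ p) ⁻¹ᵁ U.1 from D.A.π.preimage_mono hle) a =
          D.A.π.app T c * D.t T e ^ n := by
  obtain ⟨U0, hU0, hxU⟩ := exists_isAffineOpen_mem (p x)
  let W := p ⁻¹ᵁ U0
  obtain ⟨hM, -, hsec⟩ := isAmple_iff.1 (hamp.2 ⟨U0, hU0⟩)
  obtain ⟨n, s, hn, hxs, hsaff⟩ := hsec ⟨x, hxU⟩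
  obtain ⟨a, ha⟩ := D.exists_fn (W := W) hM n s
  have hloc : ∀ z : W, ∃ (T : W.toScheme.Opens) (e : Γ(L.restrict W.ι, T)) (c : Γ(W.toScheme, T)),
      IsAffineOpen T ∧ z ∈ T ∧ IsGen (L.restrict W.ι) e ∧
      (CohB1.tensorPow (L.restrict W.ι) n).presheaf.map (homOfLE le_top).op s = c • spow e n := by
    intro z
    obtain ⟨V, e, hzV, he⟩ := exists_gen hM z
    obtain ⟨T, hT, hzT, hTV⟩ := exists_affine_mem_le hzV
    obtain ⟨c, hc⟩ := exists_coeff (isGen_spow (he.res hTV) n)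
      ((CohB1.tensorPow (L.restrict W.ι) n).presheaf.map (homOfLE le_top).op s)
    exact ⟨T, _, c, hT, hzT, he.res hTV, hc⟩
  choose T e c hT hzT he hc using hloc
  have haff : IsAffineOpen (D.A.spec.basicOpen a) := by
    let G := gen (CohB1.tensorPow (L.restrict W.ι) n) s
    have hG : IsAffineOpen (D.A.π ⁻¹ᵁ (W.ι ''ᵁ G)) := (hsaff.image_of_isOpenImmersion W.ι).preimage D.A.π
    have hle : D.A.π ⁻¹ᵁ (W.ι ''ᵁ G) ≤ D.A.π ⁻¹ᵁ W := D.A.π.preimage_mono (W.ι_image_le G)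
    have h1 := hG.basicOpen (rs hle a)
    rw [Scheme.basicOpen_res] at h1
    have h2 : D.A.spec.basicOpen a ≤ D.A.π ⁻¹ᵁ (W.ι ''ᵁ G) := fun v hv => by
      let z : W := ⟨D.A.π v, (D.A.spec.basicOpen_le a) hv⟩
      have hvT : v ∈ D.A.π ⁻¹ᵁ (W.ι ''ᵁ T z) := ⟨z, hzT z, rfl⟩
      have h3 : v ∈ D.A.spec.basicOpen (rs (D.A.π.preimage_mono (W.ι_image_le (T z))) a) := by
        rw [Scheme.basicOpen_res]
        exact ⟨hvT, hv⟩
      rw [ha _ _ _ (hT z) (he z) (hc z), Scheme.basicOpen_mul, ← Scheme.preimage_basicOpen] at h3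
      have h4 : z ∈ W.toScheme.basicOpen (c z) := Scheme.Opens.mem_basicOpen_toScheme.2 h3.1
      rw [← gen_inf_eq_basicOpen (isGen_spow (he z) n) s (c z) (hc z)] at h4
      exact ⟨z, h4.1, rfl⟩
    rwa [inf_eq_right.2 h2] at h1
  have hzero : jU (D.A.π ≫ p) p D.j0 (by rw [← Category.assoc, D.j0_π, Category.id_comp]) U0 a = 0 := by
    refine X.sheaf.eq_of_locally_eq' (fun z : W => W.ι ''ᵁ T z) W (fun z => homOfLE (W.ι_image_le _))
      (fun y hy => Opens.mem_iSup.2 ⟨⟨y, hy⟩, ⟨⟨y, hy⟩, hzT _, rfl⟩⟩) _ _ fun z => ?_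
    change X.presheaf.map (homOfLE (W.ι_image_le (T z))).op _ = X.presheaf.map (homOfLE (W.ι_image_le (T z))).op 0
    rw [map_zero]
    have h1 := congrArg (D.jsec (W.ι ''ᵁ T z)) (ha _ _ _ (hT z) (he z) (hc z))
    rw [map_mul, map_pow, D.jsec_t, zero_pow hn.ne', mul_zero] at h1
    refine Eq.trans ?_ h1
    change (D.j0.appLE _ _ _ ≫ X.presheaf.map _) a = (D.A.spec.presheaf.map _ ≫ D.j0.appLE _ _ _) a
    rw [Scheme.Hom.appLE_map, Scheme.Hom.map_appLE]
  have hxc : (⟨x, hxU⟩ : W) ∈ W.toScheme.basicOpen (c ⟨x, hxU⟩) := by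
    rw [← gen_inf_eq_basicOpen (isGen_spow (he _) n) s _ (hc _)]
    exact ⟨hxs, hzT _⟩
  let T₁ := W.ι ''ᵁ T ⟨x, hxU⟩
  let c₁ : Γ(X, T₁) := c ⟨x, hxU⟩
  let e₁ : Γ(L, T₁) := toImg W L (e ⟨x, hxU⟩)
  have hD : X.basicOpen c₁ ≤ T₁ := X.basicOpen_le c₁
  refine ⟨⟨U0, hU0⟩, n, a, hxU, hn, hzero, haff, X.basicOpen c₁, L.presheaf.map (homOfLE hD).op e₁,
    X.presheaf.map (homOfLE hD).op c₁, hD.trans (W.ι_image_le _), ?_, ?_, ?_, ?_, ?_⟩
  · exact ((hT _).image_of_isOpenImmersion W.ι).basicOpen c₁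
  · exact Scheme.Opens.mem_basicOpen_toScheme.1 hxc
  · exact (H11Proj.isGen_toImg W (he _)).res hD
  · exact RingedSpace.isUnit_res_basicOpen _ c₁
  · have h1 := congrArg (rs (D.A.π.preimage_mono hD)) (ha _ _ _ (hT ⟨x, hxU⟩) (he _) (hc _))
    rw [rs_rs, map_mul, map_pow] at h1
    refine h1.trans ?_
    exact congrArg₂ (fun u v => u * v ^ n)
      (ConcreteCategory.congr_hom (D.A.π.naturality (homOfLE hD).op) c₁).symm (D.t_res hD e₁)

/-- An affine morphism hit by an integral map of rings. -/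
theorem isIntegralHom_morphismRestrict {P Q : Scheme.{u}} (i : Q ⟶ P) {O : P.Opens} (hO : IsAffineOpen O)
    (hQ : IsAffineOpen (i ⁻¹ᵁ O)) (h : (i.app O).hom.IsIntegral) : IsIntegralHom (i ∣_ O) := by
  haveI : IsAffine O.toScheme := hO
  rw [HasAffineProperty.iff_of_isAffine (P := @IsIntegralHom)]
  refine ⟨hQ, ?_⟩
  have key : ∀ (W : P.Opens) (W' : Q.Opens) (_ : W = O) (e' : W' = i ⁻¹ᵁ W),
      (i.app W ≫ Q.presheaf.map (eqToHom e').op).hom.IsIntegral := by
    rintro W W' rfl rfl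
    simpa using h
  rw [show (i ∣_ O).app ⊤ = (i ∣_ O).appTop from rfl, morphismRestrict_appTop]
  exact key _ _ O.ι_image_top _

theorem contraction_props (D : LB L) (p : X ⟶ Y) [QuasiCompact p] [IsSeparated p]
    (hamp : RelAmple.IsRelAmple p L)
    (V0 : D.A.spec.Opens) (hV0 : (V0 : Set D.A.spec) = (Set.range D.j0)ᶜ)
    (hjp : D.j0 ≫ D.A.π ≫ p = p) {C : Scheme.{u}} (g : C ⟶ Y) [IsAffineHom g] (ε : Y ⟶ C) (q : D.A.spec ⟶ C)
    (hεg : ε ≫ g = 𝟙 Y) (hqg : q ≫ g = D.A.π ≫ p) (hjq : D.j0 ≫ q = p ≫ ε)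
    (hlift : ∀ U : Y.affineOpens, ∀ (a : Γ(D.A.spec, (D.A.π ≫ p) ⁻¹ᵁ U.1)) (b : Γ(Y, U.1)),
      (jU (D.A.π ≫ p) p D.j0 hjp U.1 a = p.app U.1 b) →
      ∃! z : Γ(C, g ⁻¹ᵁ U.1),
        q.appLE (g ⁻¹ᵁ U.1) ((D.A.π ≫ p) ⁻¹ᵁ U.1) (preimage_le g (D.A.π ≫ p) hqg _) z = a ∧
          ε.appLE (g ⁻¹ᵁ U.1) U.1 (preimage_le g (𝟙 Y) hεg _) z = b) :
    IsOpenImmersion (V0.ι ≫ q) ∧ QuasiCompact (V0.ι ≫ q) ∧
      Set.range (V0.ι ≫ q).base ∩ Set.range ε.base = ∅ ∧
        (IsProper p → IsProper q ∧ Set.range (V0.ι ≫ q).base = (Set.range ε.base)ᶜ) := by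
  have hqsep : IsSeparated (q ≫ g) := hqg ▸ inferInstance
  haveI : QuasiCompact (q ≫ g) := hqg ▸ inferInstance
  haveI : QuasiCompact q := QuasiCompact.of_comp q g
  choose U n a hxU hn hjz haff T e c hle hT hxT he hc ha using fun x : X => exists_homog D p hamp x
  have hlift' : ∀ x, ∃ z : Γ(C, g ⁻¹ᵁ (U x).1),
      q.appLE (g ⁻¹ᵁ (U x).1) ((D.A.π ≫ p) ⁻¹ᵁ (U x).1) (preimage_le g _ hqg _) z = a x ∧
      ε.appLE (g ⁻¹ᵁ (U x).1) (U x).1 (preimage_le g (𝟙 Y) hεg _) z = 0 := fun x => by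
    obtain ⟨z, hz, -⟩ := hlift (U x) (a x) 0 (by rw [hjz x, map_zero])
    exact ⟨z, hz⟩
  choose z hzq hzε using hlift'
  have hpre : ∀ x, q ⁻¹ᵁ C.basicOpen (z x) = D.A.spec.basicOpen (a x) := fun x => by
    have h1 : D.A.spec.basicOpen (a x) = (D.A.π ≫ p) ⁻¹ᵁ (U x).1 ⊓ q ⁻¹ᵁ C.basicOpen (z x) := by
      conv_lhs => rw [← hzq x]
      rw [Scheme.Hom.appLE, CommRingCat.comp_apply, Scheme.basicOpen_res, ← Scheme.preimage_basicOpen]
    rw [h1]
    exact (inf_eq_right.2 ((q.preimage_mono (C.basicOpen_le _)).trans (le_of_eq (by rw [← Scheme.Hom.comp_preimage, hqg])))).symm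
  have hεC : ∀ x y, ε y ∉ C.basicOpen (z x) := fun x y hy => by
    have hyU : y ∈ (U x).1 := by
      have h' : g (ε y) ∈ (U x).1 := C.basicOpen_le _ hy
      rwa [← Scheme.Hom.comp_apply, hεg] at h'
    have h1 : y ∈ Y.basicOpen (ε.appLE (g ⁻¹ᵁ (U x).1) (U x).1 (preimage_le g (𝟙 Y) hεg _) (z x)) := by
      rw [Scheme.Hom.appLE, CommRingCat.comp_apply, Scheme.basicOpen_res, ← Scheme.preimage_basicOpen]
      exact ⟨hyU, hy⟩
    rw [hzε x, Scheme.basicOpen_zero] at h1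
    exact h1
  have hqj : ∀ x, q (D.j0 x) = ε (p x) := fun x => by
    rw [← Scheme.Hom.comp_apply, hjq, Scheme.Hom.comp_apply]
  have hmemV0 : ∀ x, D.A.spec.basicOpen (a x) ≤ V0 := fun x v hv => by
    refine hV0.ge ?_
    rintro ⟨y, rfl⟩
    rw [← hpre] at hv
    exact hεC x (p y) (by rw [← hqj]; exact hv)
  have hcover : ∀ v ∈ V0, v ∈ D.A.spec.basicOpen (a (D.A.π v)) := fun v hv => by
    have hvT : v ∈ D.A.π ⁻¹ᵁ T (D.A.π v) := hxT _
    have h1 : v ∈ D.A.spec.basicOpen (rs (show D.A.π ⁻¹ᵁ T (D.A.π v) ≤ (D.A.π ≫ p) ⁻¹ᵁ (U (D.A.π v)).1 from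
        D.A.π.preimage_mono (hle _)) (a (D.A.π v))) := by
      rw [ha, Scheme.basicOpen_mul, ← Scheme.preimage_basicOpen, Scheme.basicOpen_pow _ _ (hn _)]
      refine ⟨?_, (D.range_compl_inter (hT _) (he _)).le ⟨hV0.le hv, hvT⟩⟩
      show D.A.π v ∈ X.basicOpen (c (D.A.π v))
      rw [Scheme.basicOpen_of_isUnit _ (hc _)]
      exact hxT _
    rw [Scheme.basicOpen_res] at h1
    exact h1.2
  have himm : ∀ x, IsOpenImmersion ((D.A.spec.basicOpen (a x)).ι ≫ q) := fun x => by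
    have hC : IsAffineOpen (C.basicOpen (z x)) := ((U x).2.preimage g).basicOpen _
    have hle' : D.A.spec.basicOpen (a x) ≤ q ⁻¹ᵁ C.basicOpen (z x) := (hpre x).ge
    let ρ := q.appLE (g ⁻¹ᵁ (U x).1) ((D.A.π ≫ p) ⁻¹ᵁ (U x).1) (preimage_le g _ hqg _)
    have hloc := isLocalization_basicOpen_of_qcqs
      ((D.A.π ≫ p).isCompact_preimage (U x).2.isCompact)
      ((D.A.π ≫ p).isQuasiSeparated_preimage (U x).2.isQuasiSeparated) (a x)
    haveI := ((U x).2.preimage g).isLocalization_basicOpen (z x)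
    have hsq : ∀ w, q.appLE _ _ hle' (C.presheaf.map (homOfLE (C.basicOpen_le (z x))).op w) =
        D.A.spec.presheaf.map (homOfLE (D.A.spec.basicOpen_le (a x))).op (ρ w) := fun w => by
      change (C.presheaf.map _ ≫ q.appLE _ _ _) w = (q.appLE _ _ _ ≫ D.A.spec.presheaf.map _) w
      rw [Scheme.Hom.map_appLE, Scheme.Hom.appLE_map]
    have hbij : Function.Bijective (q.appLE _ _ hle') := by
      constructor
      · rw [injective_iff_map_eq_zero]
        intro w hw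
        obtain ⟨⟨w0, _, m, rfl⟩, hm⟩ := IsLocalization.surj (Submonoid.powers (z x)) w
        have h2 : D.A.spec.presheaf.map (homOfLE (D.A.spec.basicOpen_le (a x))).op (ρ w0) = 0 := by
          rw [← hsq]
          exact (congrArg (q.appLE _ _ hle') hm.symm).trans (by rw [map_mul, hw, zero_mul])
        obtain ⟨⟨_, l, rfl⟩, hl⟩ := IsLocalization.exists_of_eq (M := Submonoid.powers (a x))
          (S := Γ(D.A.spec, D.A.spec.basicOpen (a x))) (x := ρ w0) (y := 0) (h2.trans (map_zero _).symm)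
        have hl' : a x ^ l * ρ w0 = 0 := hl.trans (mul_zero _)
        have hzero : z x ^ (l + 1) * w0 = 0 := by
          obtain ⟨z', -, huni⟩ := hlift (U x) 0 0 (by rw [map_zero, map_zero])
          have e1 := huni 0 ⟨map_zero _, map_zero _⟩
          refine (huni _ ⟨?_, ?_⟩).trans e1.symm
          · rw [map_mul, map_pow, hzq x, pow_succ', mul_assoc]
            exact (congrArg (a x * ·) hl').trans (mul_zero _)
          · rw [map_mul, map_pow, hzε x, zero_pow (Nat.succ_ne_zero l), zero_mul]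
        have h3 := congrArg (C.presheaf.map (homOfLE (C.basicOpen_le (z x))).op) hzero
        rw [map_mul, map_zero, map_pow] at h3
        have hu : IsUnit (C.presheaf.map (homOfLE (C.basicOpen_le (z x))).op (z x)) :=
          RingedSpace.isUnit_res_basicOpen _ _
        have h5 : C.presheaf.map (homOfLE (C.basicOpen_le (z x))).op w0 = 0 := (hu.pow _).mul_right_eq_zero.1 h3
        have h6 : w * C.presheaf.map (homOfLE (C.basicOpen_le (z x))).op (z x ^ m) = 0 := hm.trans h5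
        rw [map_pow] at h6
        exact (hu.pow m).mul_left_eq_zero.1 h6
      · intro y
        obtain ⟨⟨b, _, m, rfl⟩, hm⟩ := IsLocalization.surj (Submonoid.powers (a x)) y
        obtain ⟨w0, ⟨hw0, -⟩, -⟩ := hlift (U x) (a x * b) 0 (by rw [map_mul, hjz x, zero_mul, map_zero])
        have hu : IsUnit (C.presheaf.map (homOfLE (C.basicOpen_le (z x))).op (z x)) :=
          RingedSpace.isUnit_res_basicOpen _ _
        refine ⟨C.presheaf.map (homOfLE (C.basicOpen_le (z x))).op w0 * ↑((hu.pow (m + 1)).unit⁻¹), ?_⟩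
        refine (hu.pow (m + 1)).map (q.appLE _ _ hle').hom |>.mul_left_injective ?_
        change q.appLE _ _ hle' _ * q.appLE _ _ hle' _ = y * q.appLE _ _ hle' _
        rw [← map_mul, mul_assoc, IsUnit.val_inv_mul, mul_one, hsq, map_pow, hsq,
          show ρ w0 = a x * b from hw0, show ρ (z x) = a x from hzq x, map_mul]
        have hm' : y * D.A.spec.presheaf.map (homOfLE (D.A.spec.basicOpen_le (a x))).op (a x ^ m) =
            D.A.spec.presheaf.map (homOfLE (D.A.spec.basicOpen_le (a x))).op b := hm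
        rw [← hm', map_pow, pow_succ]
        ring
    haveI : IsIso (q.appLE _ _ hle') := (ConcreteCategory.isIso_iff_bijective _).2 hbij
    have hfac : (D.A.spec.basicOpen (a x)).ι ≫ q =
        (haff x).isoSpec.hom ≫ Spec.map (q.appLE _ _ hle') ≫ hC.fromSpec := by
      rw [IsAffineOpen.SpecMap_appLE_fromSpec q hC (haff x) hle', ← IsAffineOpen.isoSpec_inv_ι, Category.assoc,
        Iso.hom_inv_id_assoc]
    rw [hfac]
    infer_instance
  let f0 := V0.ι ≫ q
  have hinjV : ∀ v v', v ∈ V0 → v' ∈ V0 → q v = q v' → v = v' := fun v v' hv _ h => by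
    have h1 := hcover v hv
    have h2 : v' ∈ D.A.spec.basicOpen (a (D.A.π v)) := by
      rw [← hpre] at h1 ⊢
      show q v' ∈ C.basicOpen _
      rw [← h]
      exact h1
    haveI := himm (D.A.π v)
    have := ((D.A.spec.basicOpen (a (D.A.π v))).ι ≫ q).isOpenEmbedding.injective
      (a₁ := ⟨v, h1⟩) (a₂ := ⟨v', h2⟩) h
    exact congrArg Subtype.val this
  have hopen : IsOpenImmersion f0 := by
    refine IsOpenImmersion.of_forall_source_exists f0
      (fun v v' h => Subtype.ext (hinjV v.1 v'.1 v.2 v'.2 h)) fun v => ?_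
    refine ⟨_, D.A.spec.homOfLE (hmemV0 (D.A.π v.1)), inferInstance, ?_, ?_⟩
    · exact ⟨⟨v.1, hcover v.1 v.2⟩, Subtype.ext (ConcreteCategory.congr_hom
        (congrArg (fun k => k.base) (D.A.spec.homOfLE_ι (hmemV0 (D.A.π v.1)))) _)⟩
    · rw [← Category.assoc, Scheme.homOfLE_ι]
      exact himm _
  have hdisj : Set.range f0.base ∩ Set.range ε.base = ∅ := by
    refine Set.eq_empty_iff_forall_notMem.2 fun w ⟨⟨v, hv⟩, ⟨y, hy⟩⟩ => ?_
    have h1 := hcover v.1 v.2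
    rw [← hpre] at h1
    have h' : ε y = q v.1 := hy.trans hv.symm
    exact hεC (D.A.π v.1) y (h' ▸ h1)
  haveI : QuasiCompact V0.ι := by
    refine IsZariskiLocalAtTarget.of_iSup_eq_top (P := @QuasiCompact) (fun x : X => D.A.π ⁻¹ᵁ T x)
      (eq_top_iff.2 fun v _ => Opens.mem_iSup.2 ⟨D.A.π v, hxT _⟩) fun x => ?_
    haveI : IsAffine (D.A.π ⁻¹ᵁ T x).toScheme := (hT x).preimage D.A.π
    rw [HasAffineProperty.iff_of_isAffine (P := @QuasiCompact)]
    refine isCompact_iff_compactSpace.1 ?_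
    rw [V0.ι.isOpenEmbedding.isInducing.isCompact_iff]
    have himg : V0.ι '' (V0.ι ⁻¹ᵁ (D.A.π ⁻¹ᵁ T x) : Set V0) = D.A.spec.basicOpen (D.t (T x) (e x)) := by
      rw [← D.range_compl_inter (hT x) (he x), ← hV0]
      ext v
      exact ⟨fun ⟨w, hw, he⟩ => he ▸ ⟨w.2, hw⟩, fun ⟨hv, hvT⟩ => ⟨⟨v, hv⟩, hvT, rfl⟩⟩
    rw [himg]
    exact (((hT x).preimage D.A.π).basicOpen _).isCompact
  refine ⟨hopen, inferInstance, hdisj, fun hp => ?_⟩
  haveI := hp
  haveI : IsSeparated (q ≫ g) := hqsep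
  haveI : IsSeparated q := IsSeparated.of_comp q g
  haveI : LocallyOfFiniteType D.A.π := by
    rw [HasRingHomProperty.iff_exists_appLE (P := @LocallyOfFiniteType)
      (RingHom.finiteType_stableUnderComposition.stableUnderCompositionWithLocalizationAway
        RingHom.finiteType_holdsForLocalizationAway).1]
    intro v
    refine ⟨⟨T (D.A.π v), hT _⟩, ⟨D.A.π ⁻¹ᵁ T (D.A.π v), (hT _).preimage D.A.π⟩, hxT _, le_rfl, ?_⟩
    rw [← Scheme.Hom.app_eq_appLE]
    have h1 : (D.A.π.app (T (D.A.π v))).hom = (D.ev (T (D.A.π v)) (e _)).comp Polynomial.C :=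
      RingHom.ext fun r => (D.ev_C _ _ r).symm
    rw [h1]
    exact (RingHom.FiniteType.of_surjective _ (D.ev_bijective (hT _) (he _)).2).comp
      ((RingHom.finiteType_algebraMap (A := Γ(X, T (D.A.π v))) (B := Polynomial Γ(X, T (D.A.π v)))).2 inferInstance)
  haveI : LocallyOfFiniteType (q ≫ g) := hqg ▸ inferInstance
  haveI : LocallyOfFiniteType q := locallyOfFiniteType_of_comp q g
  haveI : UniversallyClosed q := by
    let i : D.A.spec ⟶ pullback g p := pullback.lift q D.A.π hqg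
    have hi : i ≫ pullback.snd g p = D.A.π := pullback.lift_snd _ _ _
    have hi' : i ≫ pullback.fst g p = q := pullback.lift_fst _ _ _
    haveI : IsAffineHom (pullback.snd g p) := MorphismProperty.pullback_snd _ _ inferInstance
    haveI : IsIntegralHom i := by
      refine IsZariskiLocalAtTarget.of_iSup_eq_top (P := @IsIntegralHom)
        (fun x : X => pullback.snd g p ⁻¹ᵁ T x)
        (eq_top_iff.2 fun w _ => Opens.mem_iSup.2 ⟨pullback.snd g p w, hxT _⟩) fun x => ?_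
      have hO : IsAffineOpen (pullback.snd g p ⁻¹ᵁ T x) := (hT x).preimage (pullback.snd g p)
      have hQ : i ⁻¹ᵁ (pullback.snd g p ⁻¹ᵁ T x) = D.A.π ⁻¹ᵁ T x := by
        rw [← Scheme.Hom.comp_preimage, hi]
      refine isIntegralHom_morphismRestrict i hO (hQ ▸ (hT x).preimage D.A.π) ?_
      let φ := i.appLE (pullback.snd g p ⁻¹ᵁ T x) (D.A.π ⁻¹ᵁ T x) hQ.ge
      suffices hφ : φ.hom.IsIntegral by
        have key : ∀ (W : D.A.spec.Opens) (hW : W ≤ i ⁻¹ᵁ (pullback.snd g p ⁻¹ᵁ T x)),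
            W = i ⁻¹ᵁ (pullback.snd g p ⁻¹ᵁ T x) →
            (i.appLE _ W hW).hom.IsIntegral → (i.app (pullback.snd g p ⁻¹ᵁ T x)).hom.IsIntegral := by
          rintro W hW rfl h
          rwa [Scheme.Hom.app_eq_appLE]
        exact key _ _ hQ.symm hφ
      have hA : ∀ r, φ (((pullback.snd g p).app (T x)) r) = D.A.π.app (T x) r := fun r => by
        change ((pullback.snd g p).app (T x) ≫ i.appLE _ _ _) r = _
        rw [Scheme.Hom.app_eq_appLE, Scheme.Hom.app_eq_appLE, Scheme.Hom.appLE_comp_appLE]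
        simp only [hi]
      have hO' : pullback.snd g p ⁻¹ᵁ T x ≤ pullback.fst g p ⁻¹ᵁ (g ⁻¹ᵁ (U x).1) := by
        rw [← Scheme.Hom.comp_preimage, pullback.condition, Scheme.Hom.comp_preimage]
        exact (pullback.snd g p).preimage_mono (hle x)
      let w := (pullback.fst g p).appLE (g ⁻¹ᵁ (U x).1) (pullback.snd g p ⁻¹ᵁ T x) hO' (z x)
      have hw : φ w = D.A.π.app (T x) (c x) * D.t (T x) (e x) ^ n x := by
        rw [← ha x, ← hzq x]
        change ((pullback.fst g p).appLE _ _ _ ≫ i.appLE _ _ _) (z x) = (q.appLE _ _ _ ≫ D.A.spec.presheaf.map _) (z x)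
        rw [Scheme.Hom.appLE_comp_appLE, Scheme.Hom.appLE_map]
        simp only [hi']
      intro s
      obtain ⟨F, rfl⟩ := (D.ev_bijective (hT x) (he x)).2 s
      have hCint : ∀ r, φ.hom.IsIntegralElem (D.A.π.app (T x) r) := fun r => hA r ▸ φ.hom.isIntegralElem_map
      have htint : φ.hom.IsIntegralElem (D.t (T x) (e x)) := by
        let w' := w * (pullback.snd g p).app (T x) ↑((hc x).unit⁻¹)
        have hw' : φ w' = D.t (T x) (e x) ^ n x := by
          simp only [w', map_mul, hw, hA]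
          rw [mul_right_comm, ← map_mul, IsUnit.mul_val_inv, map_one, one_mul]
        refine ⟨Polynomial.X ^ n x - Polynomial.C w', Polynomial.monic_X_pow_sub_C _ (hn x).ne', ?_⟩
        rw [Polynomial.eval₂_sub, Polynomial.eval₂_X_pow, Polynomial.eval₂_C, sub_eq_zero]
        exact hw'.symm
      induction F using Polynomial.induction_on' with
      | add F G hF hG => rw [map_add]; exact hF.add _ hG
      | monomial k r =>
        rw [← Polynomial.C_mul_X_pow_eq_monomial, map_mul, map_pow, LB.ev_C, LB.ev_X]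
        refine (hCint r).mul _ ?_
        induction k with
        | zero => rw [pow_zero]; exact φ.hom.isIntegralElem_one
        | succ k ih => rw [pow_succ]; exact ih.mul _ htint
    rw [← hi']
    infer_instance
  haveI : IsProper q := {}
  refine ⟨inferInstance, Set.Subset.antisymm ?_ ?_⟩
  · intro w hw hwε
    exact Set.eq_empty_iff_forall_notMem.1 hdisj w ⟨hw, hwε⟩
  · intro w hw
    obtain ⟨U0, hU0, hwU⟩ := exists_isAffineOpen_mem (g w)
    have hεcl : IsClosed (Set.range ε.base) := by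
      haveI : IsClosedImmersion (ε ≫ g) := hεg ▸ inferInstance
      haveI := IsClosedImmersion.of_comp ε g
      exact ε.isClosedEmbedding.isClosed_range
    obtain ⟨z1, hz1, hwz1⟩ := (hU0.preimage g).exists_basicOpen_le
      (V := ⟨(Set.range ε.base)ᶜ, hεcl.isOpen_compl⟩) ⟨w, hw⟩ hwU
    by_cases hwq : w ∈ Set.range q.base
    · obtain ⟨v, rfl⟩ := hwq
      by_cases hv : v ∈ V0
      · exact ⟨⟨v, hv⟩, rfl⟩
      · obtain ⟨y, rfl⟩ := not_not.1 fun h => hv (hV0.ge h)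
        exact absurd ⟨p y, (hqj y).symm⟩ hw
    · exfalso
      obtain ⟨z2, hz2, hwz2⟩ := (hU0.preimage g).exists_basicOpen_le
        (V := ⟨(Set.range q.base)ᶜ, q.isClosedMap.isClosed_range.isOpen_compl⟩) ⟨w, hwq⟩ hwU
      have hn1 : IsNilpotent (ε.appLE (g ⁻¹ᵁ U0) U0 (preimage_le g (𝟙 Y) hεg _) z1) := by
        rw [Scheme.isNilpotent_iff_basicOpen_eq_bot_of_isCompact hU0.isCompact, eq_bot_iff]
        intro y hy
        rw [Scheme.Hom.appLE, CommRingCat.comp_apply, Scheme.basicOpen_res, ← Scheme.preimage_basicOpen] at hy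
        exact hz1 hy.2 ⟨y, rfl⟩
      have hn2 : IsNilpotent (q.appLE (g ⁻¹ᵁ U0) ((D.A.π ≫ p) ⁻¹ᵁ U0) (preimage_le g _ hqg _) z2) := by
        rw [Scheme.isNilpotent_iff_basicOpen_eq_bot_of_isCompact
          ((D.A.π ≫ p).isCompact_preimage hU0.isCompact), eq_bot_iff]
        intro v hv
        rw [Scheme.Hom.appLE, CommRingCat.comp_apply, Scheme.basicOpen_res, ← Scheme.preimage_basicOpen] at hv
        exact hz2 hv.2 ⟨v, rfl⟩
      obtain ⟨m1, hm1⟩ := hn1
      obtain ⟨m2, hm2⟩ := hn2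
      obtain ⟨z', -, huni⟩ := hlift ⟨U0, hU0⟩ 0 0 (by rw [map_zero, map_zero])
      have hz0 : (z1 * z2) ^ (m1 + m2 + 1) = 0 := by
        refine (huni _ ⟨?_, ?_⟩).trans (huni 0 ⟨map_zero _, map_zero _⟩).symm
        · rw [map_pow, map_mul, mul_pow, add_assoc, add_comm m1, pow_add _ (m2 + 1) m1,
            pow_add (q.appLE _ _ _ z2), pow_add (q.appLE _ _ _ z2), hm2]
          ring
        · rw [map_pow, map_mul, mul_pow, add_assoc, pow_add, hm1]
          ring
      have hw' : w ∈ C.basicOpen ((z1 * z2) ^ (m1 + m2 + 1)) := by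
        rw [Scheme.basicOpen_pow _ _ (Nat.succ_pos _), Scheme.basicOpen_mul]
        exact ⟨hwz1, hwz2⟩
      rw [hz0, Scheme.basicOpen_zero] at hw'
      exact hw'

theorem exists_contraction (D : LB L) (p : X ⟶ Y) [QuasiCompact p] [IsSeparated p]
    (hamp : RelAmple.IsRelAmple p L)
    (V0 : D.A.spec.Opens) (hV0 : (V0 : Set D.A.spec) = (Set.range D.j0)ᶜ) :
    ∃ (C : Scheme.{u}) (g : C ⟶ Y) (ε : Y ⟶ C) (q : D.A.spec ⟶ C),
      ε ≫ g = 𝟙 Y ∧ q ≫ g = D.A.π ≫ p ∧ D.j0 ≫ q = p ≫ ε ∧ IsSeparated g ∧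
        IsOpenImmersion (V0.ι ≫ q) ∧ QuasiCompact (V0.ι ≫ q) ∧
          Set.range (V0.ι ≫ q).base ∩ Set.range ε.base = ∅ ∧
            (IsProper p → IsProper q ∧ Set.range (V0.ι ≫ q).base = (Set.range ε.base)ᶜ) := by
  have hjp : D.j0 ≫ D.A.π ≫ p = p := by rw [← Category.assoc, D.j0_π, Category.id_comp]
  obtain ⟨C, g, hg, ε, q, hεg, hqg, hjq, hlift⟩ := exists_C (D.A.π ≫ p) p D.j0 hjp
  exact ⟨C, g, ε, q, hεg, hqg, hjq, inferInstance,
    contraction_props D p hamp V0 hV0 hjp g ε q hεg hqg hjq hlift⟩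

end Groth.Agent.H11Cone
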