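import Groth.Agent.H11Cone.Converse
import Groth.Agent.H11Cone.Forward

/-!
# Ampleness and contractions of zero sections (EGA II 8.9.1)
-/
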