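import Groth.Agent.H11Cone.Glue
import Groth.Agent.H11Ample.RelAmple
import Mathlib.AlgebraicGeometry.Morphisms.OpenImmersion

/-!
# A contraction of the zero section makes the module ample
-/

set_option autoImplicit false
set_option linter.style.haveILetI false

noncomputable section

universe u

open CategoryTheory CategoryTheory.Limits AlgebraicGeometry Opposite TopologicalSpace
open Groth.Agent.H11Sym Groth.Agent.H11Aff Groth.Agent.H11Tilde Groth.Agent.H11Ample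

namespace Groth.Agent.H11Cone

variable {X Y : Scheme.{u}} {L : X.Modules}

theorem isRelAmple_of_contraction (D : LB L) (hL : PicF.IsInvertible L) (p : X ⟶ Y) [QuasiCompact p]
    [QuasiSeparated p] {C : Scheme.{u}} (g : C ⟶ Y) (ε : Y ⟶ C) (q : D.A.spec ⟶ C)
    (hεg : ε ≫ g = 𝟙 Y) (_hqg : q ≫ g = D.A.π ≫ p) (hjq : D.j0 ≫ q = p ≫ ε)
    (V0 : D.A.spec.Opens) (hV0 : (V0 : Set D.A.spec) = (Set.range D.j0)ᶜ)
    [IsOpenImmersion (V0.ι ≫ q)] (hdisj : Set.range (V0.ι ≫ q).base ∩ Set.range ε.base = ∅) :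
    RelAmple.IsRelAmple p L := by
  refine isRelAmple_of_cover fun y => ?_
  obtain ⟨Y0, hY0, hyY0⟩ := exists_isAffineOpen_mem y
  have hge : ∀ y', g (ε y') = y' := fun y' => by
    rw [← Scheme.Hom.comp_apply, hεg]
    rfl
  obtain ⟨W0, hW0, hεy, hW0le⟩ := exists_affine_mem_le (W := g ⁻¹ᵁ Y0) (s := ε y)
    (show g (ε y) ∈ Y0 by rw [hge]; exact hyY0)
  obtain ⟨b, hb, hyb⟩ := hY0.exists_basicOpen_le (V := Y0 ⊓ ε ⁻¹ᵁ W0) ⟨y, ⟨hyY0, hεy⟩⟩ hyY0
  let U := Y.basicOpen b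
  let W := C.basicOpen (C.presheaf.map (homOfLE hW0le).op (g.app Y0 b))
  have hW : IsAffineOpen W := hW0.basicOpen _
  have hWeq : W = W0 ⊓ g ⁻¹ᵁ U := by
    change C.basicOpen (C.presheaf.map (homOfLE hW0le).op (g.app Y0 b)) = _
    rw [Scheme.basicOpen_res, ← Scheme.preimage_basicOpen]
  have hεW : ∀ y' ∈ U, ε y' ∈ W := fun y' hy' => by
    rw [hWeq]
    exact ⟨(hb hy').2, show g (ε y') ∈ U by rw [hge]; exact hy'⟩
  refine ⟨U, hY0.basicOpen b, hyb, ?_⟩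
  rw [← isAmple_restrict_iff]
  let PU := p ⁻¹ᵁ U
  have hM : PicF.IsInvertible (L.restrict PU.ι) := H10Coh.Tw.isInvertible_restrict PU hL
  haveI : CompactSpace PU.toScheme :=
    isCompact_iff_compactSpace.1 (p.isCompact_preimage (U := U) (hY0.basicOpen b).isCompact)
  haveI : QuasiSeparatedSpace PU.toScheme :=
    (isQuasiSeparated_iff_quasiSeparatedSpace _ PU.isOpen).1
      (p.isQuasiSeparated_preimage (U := U) (hY0.basicOpen b).isQuasiSeparated)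
  have hqj : ∀ x, q (D.j0 x) = ε (p x) := fun x => by
    rw [← Scheme.Hom.comp_apply, hjq, Scheme.Hom.comp_apply]
  let O : D.A.spec.Opens := q ⁻¹ᵁ W
  have hjO : ∀ x ∈ PU, D.j0 x ∈ O := fun x hx => show q (D.j0 x) ∈ W by rw [hqj]; exact hεW _ hx
  refine (isAmple_iff_basis hM).2 (isTopologicalBasis_of_isOpen_of_nhds ?_ ?_)
  · rintro _ ⟨n, s, rfl⟩; exact (CohB1.genLocus _ s).isOpen
  intro z OZ hz hOZ
  let OX : X.Opens := PU.ι ''ᵁ ⟨OZ, hOZ⟩
  obtain ⟨V, e0, hzV, he0⟩ := exists_gen hM z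
  obtain ⟨T, hT, hzT, hTV⟩ := exists_affine_mem_le hzV
  let e : Γ(L.restrict PU.ι, T) := (L.restrict PU.ι).presheaf.map (homOfLE hTV).op e0
  have he : IsGen (L.restrict PU.ι) e := he0.res hTV
  have hTX : IsAffineOpen (PU.ι ''ᵁ T) := hT.image_of_isOpenImmersion PU.ι
  have hTle : ∀ (T' : PU.toScheme.Opens), ∀ x ∈ PU.ι ''ᵁ T', D.j0 x ∈ O := fun T' x hx =>
    hjO x (PU.ι_image_le T' hx)
  have hV0t : ∀ (S : X.Opens) (eS : Γ(L, S)) (η : D.A.spec), IsAffineOpen S → IsGen L eS →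
      η ∈ D.A.spec.basicOpen (D.t S eS) → η ∈ V0 := fun S eS η hS heS hη => by
    have := (D.range_compl_inter hS heS).ge hη
    exact hV0.ge this.1
  obtain ⟨η, hηT, hπη, hη⟩ := D.exists_generic hTX (H11Proj.isGen_toImg PU he)
    (show PU.ι z ∈ PU.ι ''ᵁ T from ⟨z, hzT, rfl⟩)
  have hzmem : PU.ι z ∈ PU.ι ''ᵁ T := ⟨z, hzT, rfl⟩
  have hηO : η ∈ O := (D.generic_mem_iff hTX (H11Proj.isGen_toImg PU he) (hTle T) hzmem hη 0).1
  have hηV0 : η ∈ V0 := hV0t _ _ η hTX (H11Proj.isGen_toImg PU he) (by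
    rw [← D.ev_X]
    exact (hη _).2 ⟨1, by simpa [Scheme.mem_basicOpen _ _ _ hzmem] using hzmem⟩)
  let f0 := V0.ι ≫ q
  let O1 : C.Opens := W ⊓ f0 ''ᵁ (V0.ι ⁻¹ᵁ (O ⊓ D.A.π ⁻¹ᵁ OX))
  obtain ⟨h, hh, hηh⟩ := hW.exists_basicOpen_le (V := O1)
    ⟨q η, ⟨hηO, ⟨⟨η, hηV0⟩, ⟨hηO, show D.A.π η ∈ OX by rw [hπη]; exact ⟨z, hz, rfl⟩⟩, rfl⟩⟩⟩ hηO
  let a : Γ(D.A.spec, O) := q.app W h
  have haO : ∀ v, v ∈ D.A.spec.basicOpen a ↔ q v ∈ C.basicOpen h := fun v => by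
    change v ∈ D.A.spec.basicOpen (q.app W h) ↔ _
    rw [← Scheme.preimage_basicOpen]
    exact Iff.rfl
  obtain ⟨n, c, hc, hzc⟩ := (D.generic_mem_iff hTX (H11Proj.isGen_toImg PU he) (hTle T) hzmem hη a).2.1
    ((haO η).2 hηh)
  have hn : n ≠ 0 := by
    rintro rfl
    have hle : PU.ι ''ᵁ T ≤ D.j0 ⁻¹ᵁ O := fun x hx => hTle T x hx
    have h0 := hc.zero_eq hle
    have hj : D.j0 (PU.ι z) ∈ D.A.spec.basicOpen a := by
      have h1 : PU.ι z ∈ X.basicOpen (D.j0.appLE O _ hle a) := h0.symm ▸ hzc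
      rw [Scheme.Hom.appLE, CommRingCat.comp_apply, Scheme.basicOpen_res, ← Scheme.preimage_basicOpen] at h1
      exact h1.2
    rw [haO, hqj] at hj
    obtain ⟨w, -, hw⟩ := (hh hj).2
    exact Set.eq_empty_iff_forall_notMem.1 hdisj _ ⟨⟨w, hw⟩, ⟨_, rfl⟩⟩
  obtain ⟨k, rfl⟩ := Nat.exists_eq_succ_of_ne_zero hn
  obtain ⟨s, hs⟩ := exists_section_of_coef hM (k + 1)
    (fun T' e' c' => D.Exp a (PU.ι ''ᵁ T') (toImg PU L e') (k + 1) c')
    (fun T' e' hT' he' => D.exists_exp (hT'.image_of_isOpenImmersion PU.ι) (H11Proj.isGen_toImg PU he') (hTle T') a _)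
    (fun T' e' c₁ c₂ hT' he' h1 h2 =>
      h1.unique (hT'.image_of_isOpenImmersion PU.ι) (H11Proj.isGen_toImg PU he') h2)
    (fun T₁ T₂ hle e' c' h1 => by
      have h3 := h1.restrict (Scheme.Hom.image_mono PU.ι hle)
      rw [← toImg_res PU L hle] at h3
      exact h3)
    (fun T' e' u c' h1 => by
      refine LB.Exp.smul (u := (show Γ(X, PU.ι ''ᵁ T') from u)) ?_
      have hu : toImg PU L (u • e') = (show Γ(X, PU.ι ''ᵁ T') from u) • toImg PU L e' := by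
        rw [toImg_smul, Scheme.Opens.ι_appIso]
        rfl
      exact hu ▸ h1)
  refine ⟨_, ⟨k, homOfGlobal _ s, rfl⟩, ?_, ?_⟩
  · rw [genLocus_eq_gen, val_homOfGlobal]
    have hzc' : z ∈ PU.toScheme.basicOpen (U := T) c :=
      Scheme.Opens.mem_basicOpen_toScheme.2 hzc
    rw [← gen_inf_eq_basicOpen (isGen_spow he (k + 1)) s c (hs T e c hT he hc)] at hzc'
    exact hzc'.1
  · intro z' hz'
    rw [genLocus_eq_gen, val_homOfGlobal] at hz'
    obtain ⟨V', e0', hzV', he0'⟩ := exists_gen hM z'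
    obtain ⟨T', hT', hzT', hTV'⟩ := exists_affine_mem_le hzV'
    have he' : IsGen (L.restrict PU.ι) ((L.restrict PU.ι).presheaf.map (homOfLE hTV').op e0') := he0'.res hTV'
    have hTX' := hT'.image_of_isOpenImmersion PU.ι
    have hg' := H11Proj.isGen_toImg PU he'
    have hzmem' : PU.ι z' ∈ PU.ι ''ᵁ T' := ⟨z', hzT', rfl⟩
    obtain ⟨c', hc'⟩ := D.exists_exp hTX' hg' (hTle T') a (k + 1)
    have hzc' : z' ∈ PU.toScheme.basicOpen (U := T') c' := by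
      rw [← gen_inf_eq_basicOpen (isGen_spow he' (k + 1)) s c' (hs T' _ c' hT' he' hc')]
      exact ⟨hz', hzT'⟩
    obtain ⟨η', hηT', hπη', hη'⟩ := D.exists_generic hTX' hg' hzmem'
    have hmem := (D.generic_mem_iff hTX' hg' (hTle T') hzmem' hη' a).2.2
      ⟨_, c', hc', Scheme.Opens.mem_basicOpen_toScheme.1 hzc'⟩
    obtain ⟨w, hw, hwq⟩ := (hh ((haO η').1 hmem)).2
    have hηV' : η' ∈ V0 := hV0t _ _ η' hTX' hg' (by
      rw [← D.ev_X]
      exact (hη' _).2 ⟨1, by simpa [Scheme.mem_basicOpen _ _ _ hzmem'] using hzmem'⟩)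
    obtain rfl : w = ⟨η', hηV'⟩ := f0.isOpenEmbedding.injective hwq
    have hOX : D.A.π η' ∈ OX := hw.2
    rw [hπη'] at hOX
    obtain ⟨z'', hz'', he''⟩ := hOX
    exact PU.ι.isOpenEmbedding.injective he'' ▸ hz''

end Groth.Agent.H11Cone
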