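import Groth.Agent.H11Sym.SymSheaf
import Groth.Agent.H11Ample.Twist
import Groth.Agent.H11Aff.RelSpecUniv
import Groth.Agent.H25Norm.Sections
import Groth.Agent.H05EGA4.NormalSections
import Groth.Prelude.Def_Pi1
import Mathlib.RingTheory.Polynomial.IsIntegral

/-!
# Integrality and normality of line bundles and of spectra of direct images

The vector bundle of an invertible module over an integral (locally integral normal) scheme is integral
(locally integral normal); sections of a locally integral normal scheme over a quasi-compact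
quasi-separated open form a normal ring, without any Noetherian hypothesis.
-/

set_option autoImplicit false
set_option linter.style.haveILetI false

noncomputable section

universe u

open CategoryTheory CategoryTheory.Limits AlgebraicGeometry Opposite TopologicalSpace
open Groth.Agent.H11Sym Groth.Agent.H11Aff Groth.Agent.H11Tilde Groth.Agent.H11Ample

namespace Groth.Agent.H11Cone

/-- The symmetric algebra of a module with a generator over an affine open is a polynomial ring. -/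
theorem exists_polynomial_equiv {X : Scheme.{u}} {L : X.Modules} {A : RelSpec.QCAlg X} {j : L ⟶ A.toModule}
    (hj : IsAffSym j) {T : X.Opens} (hT : IsAffineOpen T) {e : Γ(L, T)} (he : IsGen L e) :
    Nonempty (Polynomial Γ(X, T) ≃+* A.presheaf.obj (op T)) := by
  letI := algOn A T
  have hS := hj T hT
  have hbij : Function.Bijective fun r : Γ(X, T) => r • e := by
    have h1 := he.bijective (le_refl T)
    simpa only [H10Coh.mres_self] using h1
  let coef : Γ(L, T) ≃ₗ[Γ(X, T)] Γ(X, T) :=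
    (LinearEquiv.ofBijective (LinearMap.toSpanSingleton Γ(X, T) Γ(L, T) e) hbij).symm
  let φ : A.presheaf.obj (op T) →ₐ[Γ(X, T)] Polynomial Γ(X, T) :=
    hS.lift ((Polynomial.monomial 1).comp coef.toLinearMap)
  let ψ : Polynomial Γ(X, T) →ₐ[Γ(X, T)] A.presheaf.obj (op T) := Polynomial.aeval (japp j T e)
  have hφ : ∀ m, φ (japp j T m) = Polynomial.monomial 1 (coef m) := fun m =>
    IsSymmetricAlgebra.lift_eq hS _ m
  have hcoef : coef e = 1 := by
    rw [LinearEquiv.symm_apply_eq]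
    exact (one_smul _ _).symm
  have h1 : ψ.comp φ = AlgHom.id _ _ := by
    refine hS.algHom_ext (LinearMap.ext fun m => ?_)
    change ψ (φ (japp j T m)) = japp j T m
    rw [hφ, show ψ = Polynomial.aeval (japp j T e) from rfl, Polynomial.aeval_monomial, pow_one]
    have hm : coef m • e = m := coef.symm_apply_apply m
    conv_rhs => rw [← hm, japp_smul]
    rfl
  have h2 : φ.comp ψ = AlgHom.id _ _ := by
    refine Polynomial.algHom_ext ?_
    rw [AlgHom.comp_apply, show ψ Polynomial.X = japp j T e from Polynomial.aeval_X _, hφ, hcoef,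
      Polynomial.monomial_one_one_eq_X]
    rfl
  exact ⟨(AlgEquiv.ofAlgHom ψ φ h1 h2).toRingEquiv⟩

/-- The affine pieces of a relative spectrum have the sections of the algebra as rings. -/
def sectionsEquiv {X : Scheme.{u}} (A : RelSpec.QCAlg X) (U : X.Opens) :
    Γ(A.spec, A.π ⁻¹ᵁ U) ≃+* A.presheaf.obj (op U) :=
  haveI := RelSpecUniv.gammaMap_isIso A
  (asIso (A.gammaMap.app (op U))).commRingCatIsoToRingEquiv

/-- Integrality from a cover by integral opens meeting pairwise. -/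
theorem isIntegral_of_cover' {V : Scheme.{u}} {ι : Type u} [Nonempty ι] (W : ι → V.Opens) (hW : IsOpenCover W)
    (hint : ∀ i, IsIntegral (W i : Scheme.{u})) (hmeet : ∀ i j, ((W i : Set V) ∩ W j).Nonempty) :
    IsIntegral V := by
  haveI : ∀ i, IsReduced ((V.openCoverOfIsOpenCover W hW).X i) := fun i => by
    haveI := hint i
    exact inferInstanceAs (IsReduced (W i : Scheme.{u}))
  haveI : IsReduced V := IsReduced.of_openCover V (V.openCoverOfIsOpenCover W hW)
  have hirr : ∀ i, IsPreirreducible (W i : Set V) := fun i => by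
    haveI := hint i
    have h := (PreirreducibleSpace.isPreirreducible_univ (X := (W i : Scheme.{u}))).image
      (W i).ι.base (W i).ι.continuous.continuousOn
    rwa [Set.image_univ, Scheme.Opens.range_ι] at h
  haveI : Nonempty V := ⟨(hmeet (Classical.arbitrary ι) (Classical.arbitrary ι)).some⟩
  haveI : IrreducibleSpace V := by
    refine @IrreducibleSpace.mk _ _ ⟨fun A B hA hB ⟨a, _, ha⟩ ⟨b, _, hb⟩ => ?_⟩ inferInstance
    obtain ⟨i, hi⟩ := Opens.mem_iSup.1 (hW.iSup_eq_top.ge (trivial : a ∈ (⊤ : V.Opens)))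
    obtain ⟨j, hj⟩ := Opens.mem_iSup.1 (hW.iSup_eq_top.ge (trivial : b ∈ (⊤ : V.Opens)))
    obtain ⟨c, hc⟩ := hmeet i j
    obtain ⟨d, hdi, hdA, hdj⟩ := hirr i A (W j) hA (W j).2 ⟨a, hi, ha⟩ ⟨c, hc⟩
    obtain ⟨e, -, heA, heB⟩ := hirr j A B hA hB ⟨d, hdj, hdA⟩ ⟨b, hj, hb⟩
    exact ⟨e, trivial, heA, heB⟩
  exact isIntegral_of_irreducibleSpace_of_isReduced V

/-- A scheme affine over a base in which nonempty opens meet, with domains as local coordinate rings, is
integral. -/
theorem isIntegral_of_domains {P Q : Scheme.{u}} (g : P ⟶ Q) [IsAffineHom g] [Nonempty Q]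
    (hQ : ∀ U U' : Q.Opens, (U : Set Q).Nonempty → (U' : Set Q).Nonempty → ((U : Set Q) ∩ U').Nonempty)
    (hloc : ∀ y : Q, ∃ T : Q.Opens, y ∈ T ∧ ∀ U : Q.Opens, IsAffineOpen U → U ≤ T → (U : Set Q).Nonempty →
      IsDomain Γ(P, g ⁻¹ᵁ U)) : IsIntegral P := by
  let ι := {U : Q.Opens // IsAffineOpen U ∧ (U : Set Q).Nonempty ∧ IsDomain Γ(P, g ⁻¹ᵁ U)}
  have hne : ∀ {U : Q.Opens}, IsAffineOpen U → IsDomain Γ(P, g ⁻¹ᵁ U) → (g ⁻¹ᵁ U : Set P).Nonempty := by
    intro U _ hd
    by_contra hemp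
    have hbot : g ⁻¹ᵁ U = ⊥ := Opens.ext (Set.not_nonempty_iff_eq_empty.1 hemp)
    haveI : Subsingleton Γ(P, g ⁻¹ᵁ U) := by rw [hbot]; infer_instance
    exact false_of_nontrivial_of_subsingleton Γ(P, g ⁻¹ᵁ U)
  have hcov : ∀ y : Q, ∃ U : ι, y ∈ U.1 := fun y => by
    obtain ⟨T, hyT, hT⟩ := hloc y
    obtain ⟨U, hU, hyU, hle⟩ := exists_isAffineOpen_mem_and_subset (X := Q) (x := y) (U := T) hyT
    exact ⟨⟨U, hU, ⟨y, hyU⟩, hT U hU hle ⟨y, hyU⟩⟩, hyU⟩
  haveI : Nonempty ι := ⟨(hcov (Classical.arbitrary Q)).choose⟩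
  haveI hint : ∀ i : ι, IsIntegral (g ⁻¹ᵁ i.1 : Scheme.{u}) := fun i => by
    haveI : IsAffine (g ⁻¹ᵁ i.1 : Scheme.{u}) := i.2.1.preimage g
    haveI : Nonempty (g ⁻¹ᵁ i.1 : Scheme.{u}) := (hne i.2.1 i.2.2.2).to_subtype
    haveI := i.2.2.2
    haveI : IsDomain Γ((g ⁻¹ᵁ i.1 : Scheme.{u}), ⊤) :=
      (g ⁻¹ᵁ i.1).topIso.commRingCatIsoToRingEquiv.toMulEquiv.isDomain _
    exact isIntegral_of_isAffine_of_isDomain _
  refine H11Cone.isIntegral_of_cover' (fun i : ι => g ⁻¹ᵁ i.1) (IsOpenCover.mk (eq_top_iff.2 fun v _ => ?_))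
    hint fun i k => ?_
  · obtain ⟨U, hU⟩ := hcov (g v)
    exact Opens.mem_iSup.2 ⟨U, hU⟩
  · obtain ⟨y, hy⟩ := hQ i.1 k.1 i.2.2.1 k.2.2.1
    obtain ⟨T, hyT, hT⟩ := hloc y
    obtain ⟨U, hU, hyU, hle⟩ := exists_isAffineOpen_mem_and_subset (X := Q) (x := y) (U := T ⊓ (i.1 ⊓ k.1))
      ⟨hyT, hy.1, hy.2⟩
    obtain ⟨v, hv⟩ := hne hU (hT U hU (fun z hz => (hle hz).1) ⟨y, hyU⟩)
    exact ⟨v, (hle hv).2.1, (hle hv).2.2⟩

/-- A scheme affine over a base with normal rings as local coordinate rings is normal. -/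
theorem isNormalScheme_of_normalRings {P Q : Scheme.{u}} (g : P ⟶ Q) [IsAffineHom g]
    (hloc : ∀ y : Q, ∃ U : Q.Opens, IsAffineOpen U ∧ y ∈ U ∧ EGA4.IsNormalRing Γ(P, g ⁻¹ᵁ U)) :
    Pi1.IsNormalScheme P := by
  intro v
  obtain ⟨U, hU, hvU, hnr⟩ := hloc (g v)
  have hV := hU.preimage g
  letI : Algebra Γ(P, g ⁻¹ᵁ U) (P.presheaf.stalk v) := P.presheaf.algebra_section_stalk ⟨v, hvU⟩
  haveI : IsLocalization.AtPrime (P.presheaf.stalk v) (hV.primeIdealOf ⟨v, hvU⟩).asIdeal :=
    hV.isLocalization_stalk ⟨v, hvU⟩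
  obtain ⟨hd, hi⟩ := hnr (hV.primeIdealOf ⟨v, hvU⟩).asIdeal
  let E : Localization.AtPrime (hV.primeIdealOf ⟨v, hvU⟩).asIdeal ≃+* P.presheaf.stalk v :=
    (IsLocalization.algEquiv (hV.primeIdealOf ⟨v, hvU⟩).asIdeal.primeCompl _ _).toRingEquiv
  exact ⟨E.symm.toMulEquiv.isDomain, IsIntegrallyClosed.of_equiv E⟩

section Components

variable {T : Scheme.{u}}

/-- A quasi-compact locally integral scheme is a finite union of disjoint clopen irreducible subsets. -/
theorem exists_component_cover' [CompactSpace T]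
    (hli : ∀ t : T, ∃ W : T.Opens, t ∈ W ∧ IsPreirreducible (W : Set T)) :
    ∃ S : Finset T, (∀ g ∈ S, IsClopen (closure ({g} : Set T))) ∧ ∀ t, ∃ g ∈ S, g ⤳ t := by
  classical
  choose W htW hW using hli
  have hgp : ∀ t, ∃ g ∈ W t, ∀ z ∈ W t, g ⤳ z := fun t => by
    obtain ⟨g, hg⟩ := QuasiSober.sober (S := closure (W t : Set T))
      (IsIrreducible.closure (show IsIrreducible (W t : Set T) from ⟨⟨t, htW t⟩, hW t⟩)) isClosed_closure
    exact ⟨g, (hg.mem_open_set_iff (W t).isOpen).2 ⟨t, subset_closure (htW t), htW t⟩,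
      fun z hz => hg.specializes (subset_closure hz)⟩
  choose g hgW hg using hgp
  have huniq : ∀ s t z, g s ⤳ z → g t ⤳ z → g s = g t := by
    have key : ∀ s z, g s ⤳ z → g s = g z := fun s z h => by
      have h1 : g z ⤳ g s := hg z _ (h.mem_open (W z).isOpen (htW z))
      exact ((hg s _ (h1.mem_open (W s).isOpen (hgW s))).antisymm h1).eq
    intro s t z h h'
    rw [key s z h, key t z h']
  obtain ⟨S₀, hS₀⟩ := isCompact_univ.elim_finite_subcover (fun t : T => (W t : Set T)) (fun t => (W t).isOpen)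
    (fun t _ => Set.mem_iUnion.2 ⟨t, htW t⟩)
  have hcov : ∀ t, ∃ a ∈ S₀, g a ⤳ t := fun t => by
    obtain ⟨a, ha, hta⟩ := Set.mem_iUnion₂.1 (hS₀ (Set.mem_univ t))
    exact ⟨a, ha, hg a t hta⟩
  refine ⟨S₀.image g, fun x hx => ?_, fun t => ?_⟩
  · obtain ⟨a, ha, rfl⟩ := Finset.mem_image.1 hx
    refine ⟨isClosed_closure, ?_⟩
    have : (closure {g a})ᶜ = ⋃ b ∈ ((S₀.image g).erase (g a) : Set T), closure {b} := by
      ext z
      simp only [Set.mem_compl_iff, Set.mem_iUnion, exists_prop, Finset.coe_erase, Set.mem_sdiff,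
        Set.mem_singleton_iff, Finset.mem_coe, Finset.mem_image]
      constructor
      · intro hz
        obtain ⟨b, hb, hbz⟩ := hcov z
        exact ⟨g b, ⟨⟨b, hb, rfl⟩, fun h => hz (specializes_iff_mem_closure.1 (h ▸ hbz))⟩,
          specializes_iff_mem_closure.1 hbz⟩
      · rintro ⟨_, ⟨⟨b, -, rfl⟩, hne⟩, hbz⟩ hz
        exact hne (huniq b a z (specializes_iff_mem_closure.2 hbz) (specializes_iff_mem_closure.2 hz))
    rw [← isClosed_compl_iff, this]
    exact (Finset.finite_toSet _).isClosed_biUnion fun _ _ => isClosed_closure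
  · obtain ⟨a, ha, hat⟩ := hcov t
    exact ⟨g a, Finset.mem_image_of_mem g ha, hat⟩

/-- Global sections of a quasi-compact quasi-separated locally integral normal scheme form a normal ring. -/
theorem isNormalRing_top' [CompactSpace T] [QuasiSeparatedSpace T]
    (hli : ∀ t : T, ∃ W : T.Opens, t ∈ W ∧ IsPreirreducible (W : Set T))
    (hN : ∀ t : T, IsDomain (T.presheaf.stalk t) ∧ IsIntegrallyClosed (T.presheaf.stalk t)) :
    EGA4.IsNormalRing Γ(T, ⊤) := by
  classical
  obtain ⟨S, hS, hcov⟩ := exists_component_cover' hli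
  choose! e he hgerm using fun g (hg : g ∈ S) => H05EGA4.NormalSections.exists_idempotent (hS g hg)
  have hprod : ∏ g ∈ S, (1 - e g) = 0 := by
    refine TopCat.Presheaf.section_ext T.sheaf ⊤ _ _ fun x hx => ?_
    show T.presheaf.germ ⊤ x hx _ = T.presheaf.germ ⊤ x hx 0
    obtain ⟨g, hg, hgx⟩ := hcov x
    rw [map_prod, map_zero]
    refine Finset.prod_eq_zero hg ?_
    rw [map_sub, map_one, (hgerm g hg x).1 (specializes_iff_mem_closure.mp hgx), sub_self]
  intro p _
  obtain ⟨g, hg, hgp⟩ : ∃ g ∈ S, e g ∉ p := by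
    have h0 : ∏ g ∈ S, (1 - e g) ∈ p := hprod ▸ zero_mem p
    obtain ⟨g, hg, hgp⟩ := (Ideal.IsPrime.prod_mem_iff).1 h0
    exact ⟨g, hg, fun h => Ideal.IsPrime.ne_top ‹p.IsPrime› ((Ideal.eq_top_iff_one p).mpr
      (by simpa using add_mem hgp h))⟩
  let U : T.Opens := T.basicOpen (e g)
  have hU : (U : Set T) = closure {g} := he g hg
  haveI : AlgebraicGeometry.IsReduced T := by
    haveI : ∀ t : T, _root_.IsReduced (T.presheaf.stalk t) := fun t => by have := (hN t).1; infer_instance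
    exact isReduced_of_isReduced_stalk _
  haveI : IrreducibleSpace U.toScheme := by
    haveI : IrreducibleSpace ↥(U : Set T) := by
      rw [hU]
      exact Subtype.irreducibleSpace isIrreducible_singleton.closure
    exact this
  haveI : IsIntegral U.toScheme := isIntegral_of_irreducibleSpace_of_isReduced _
  have hic : IsIntegrallyClosed Γ(U.toScheme, ⊤) := H25Norm.isIntegrallyClosed_top U.toScheme fun t => by
    haveI := (hN t.1).2
    exact IsIntegrallyClosed.of_equiv (R := T.presheaf.stalk t.1) (U.stalkIso t).commRingCatIsoToRingEquiv.symm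
  haveI : Nonempty U := ⟨⟨g, by
    show g ∈ (U : Set T); rw [hU]; exact subset_closure rfl⟩⟩
  haveI : IsDomain Γ(U.toScheme, ⊤) := inferInstance
  have hnorm : EGA4.IsNormalRing Γ(T, U) := H05EGA4.isNormalRing_of_ringEquiv U.topIso.commRingCatIsoToRingEquiv
    (H06EGA17.isNormalRing_of_isIntegrallyClosed _)
  haveI hloc : IsLocalization.Away (e g) Γ(T, U) :=
    isLocalization_basicOpen_of_qcqs CompactSpace.isCompact_univ isQuasiSeparated_univ (e g)
  have hdisj : Disjoint (Submonoid.powers (e g) : Set Γ(T, ⊤)) p := Set.disjoint_left.mpr fun x hx hx' => by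
    obtain ⟨n, rfl⟩ := hx
    exact hgp (‹p.IsPrime›.mem_of_pow_mem n hx')
  haveI := IsLocalization.isPrime_of_isPrime_disjoint (Submonoid.powers (e g)) Γ(T, U) p ‹_› hdisj
  let P := p.map (algebraMap Γ(T, ⊤) Γ(T, U))
  have hP : P.under Γ(T, ⊤) = p := IsLocalization.under_map_of_isPrime_disjoint (Submonoid.powers (e g)) _ ‹_› hdisj
  haveI h1 : IsLocalization.AtPrime (Localization.AtPrime P) (P.under Γ(T, ⊤)) :=
    IsLocalization.isLocalization_isLocalization_atPrime_isLocalization (Submonoid.powers (e g))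
      (Localization.AtPrime P) P
  haveI h2 : IsLocalization p.primeCompl (Localization.AtPrime P) := by
    convert! h1 using 2
    · exact hP.symm
  let E : Localization.AtPrime P ≃ₐ[Γ(T, ⊤)] Localization.AtPrime p :=
    IsLocalization.algEquiv p.primeCompl _ _
  obtain ⟨hd', hc'⟩ := hnorm P
  exact ⟨E.symm.toRingEquiv.toMulEquiv.isDomain, IsIntegrallyClosed.of_equiv (R := Localization.AtPrime P) E.toRingEquiv⟩

end Components

/-- Sections of a locally integral normal scheme over a quasi-compact quasi-separated open form a normal ring. -/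
theorem isNormalRing_sections {V : Scheme.{u}} (O : V.Opens) [CompactSpace (O : Scheme.{u})]
    [QuasiSeparatedSpace (O : Scheme.{u})]
    (hli : ∀ v : V, ∃ W : V.Opens, v ∈ W ∧ IsPreirreducible (W : Set V)) (hN : Pi1.IsNormalScheme V) :
    EGA4.IsNormalRing Γ(V, O) := by
  refine H05EGA4.isNormalRing_of_ringEquiv O.topIso.commRingCatIsoToRingEquiv
    (isNormalRing_top' (T := (O : Scheme.{u})) (fun t => ?_) fun t => ?_)
  · obtain ⟨W, htW, hW⟩ := hli (O.ι t)
    refine ⟨O.ι ⁻¹ᵁ W, htW, ?_⟩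
    exact hW.preimage O.ι.isOpenEmbedding
  · obtain ⟨hd, hi⟩ := hN t.1
    let E := (O.stalkIso t).commRingCatIsoToRingEquiv
    exact ⟨E.toMulEquiv.isDomain _, IsIntegrallyClosed.of_equiv (R := V.presheaf.stalk t.1) E.symm⟩

end Groth.Agent.H11Cone
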