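import Groth.Agent.H11Cone.LineBundle
import Mathlib.RingTheory.Coprime.Lemmas
import Mathlib.Algebra.Polynomial.Coeff

/-!
# Expansions along the zero section of functions defined near it
-/

set_option autoImplicit false
set_option linter.style.haveILetI false

noncomputable section

universe u

open CategoryTheory CategoryTheory.Limits AlgebraicGeometry Opposite TopologicalSpace
open Groth.Agent.H11Sym Groth.Agent.H11Aff Groth.Agent.H11Tilde

namespace Groth.Agent.H11Cone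

variable {X : Scheme.{u}} {L : X.Modules}

/-- Restriction of functions. -/
abbrev rs {V : Scheme.{u}} {O O' : V.Opens} (h : O' ≤ O) : Γ(V, O) →+* Γ(V, O') :=
  (V.presheaf.map (homOfLE h).op).hom

theorem rs_rs {V : Scheme.{u}} {O O' O'' : V.Opens} (h : O' ≤ O) (h' : O'' ≤ O') (a : Γ(V, O)) :
    rs h' (rs h a) = rs (h'.trans h) a := by
  simp only [rs, ← RingHom.comp_apply, ← CommRingCat.hom_comp, ← Functor.map_comp]
  rfl

theorem isCoprime_X_pow {R : Type*} [CommRing R] (G : Polynomial R) (n m : ℕ) :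
    IsCoprime (Polynomial.X ^ n) ((1 - Polynomial.X * G) ^ m) :=
  IsCoprime.pow (m := n) (n := m) ⟨G, 1, by ring⟩

namespace LB

variable (D : LB L)

/-- A neighbourhood of the zero section over an affine trivialising open contains a basic one. -/
theorem exists_basicOpen_le_nhd {T : X.Opens} (hT : IsAffineOpen T) {e : Γ(L, T)} (he : IsGen L e)
    {O : D.A.spec.Opens} (hO : ∀ x ∈ T, D.j0 x ∈ O) :
    ∃ G, D.A.spec.basicOpen (D.ev T e (1 - Polynomial.X * G)) ≤ O := by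
  have hU : IsAffineOpen (D.A.π ⁻¹ᵁ T) := hT.preimage D.A.π
  let I : Ideal Γ(D.A.spec, D.A.π ⁻¹ᵁ T) :=
    { carrier := {f | D.A.spec.basicOpen f ≤ O}
      add_mem' := fun {a b} ha hb z hz => (D.A.spec.basicOpen_add_le a b hz).elim (fun h => ha h) fun h => hb h
      zero_mem' := by
        show D.A.spec.basicOpen (0 : Γ(D.A.spec, D.A.π ⁻¹ᵁ T)) ≤ O
        rw [Scheme.basicOpen_zero]
        exact bot_le
      smul_mem' := fun c a ha => by
        show D.A.spec.basicOpen (c * a) ≤ O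
        rw [Scheme.basicOpen_mul]
        exact inf_le_right.trans ha }
  have htop : I ⊔ Ideal.span {D.t T e} = ⊤ := by
    by_contra hne
    obtain ⟨P, hP, hle⟩ := Ideal.exists_le_maximal _ hne
    let P' : PrimeSpectrum Γ(D.A.spec, D.A.π ⁻¹ᵁ T) := ⟨P, hP.isPrime⟩
    have hv : hU.fromSpec P' ∈ D.A.π ⁻¹ᵁ T := by
      have := Set.mem_range_self (f := hU.fromSpec) P'
      rw [IsAffineOpen.range_fromSpec] at this
      exact this
    have hmem : ∀ f, hU.fromSpec P' ∈ D.A.spec.basicOpen f ↔ f ∉ P := fun f =>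
      SetLike.ext_iff.1 (hU.fromSpec_preimage_basicOpen f) P'
    have ht : hU.fromSpec P' ∉ D.A.spec.basicOpen (D.t T e) := fun h =>
      (hmem _).1 h (hle (Submodule.mem_sup_right (Ideal.mem_span_singleton_self _)))
    have hvO : hU.fromSpec P' ∈ O := by
      rw [← D.eq_j0_of_notMem hT he hv ht]
      exact hO _ hv
    obtain ⟨f, hf, hvf⟩ := hU.exists_basicOpen_le ⟨_, hvO⟩ hv
    exact (hmem f).1 hvf (hle (Submodule.mem_sup_left (show f ∈ I from hf)))
  obtain ⟨g, hg, z, hz, hgz⟩ := Submodule.mem_sup.1 (htop.ge (Submodule.mem_top : (1 : Γ(D.A.spec, D.A.π ⁻¹ᵁ T)) ∈ ⊤))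
  obtain ⟨c, rfl⟩ := Ideal.mem_span_singleton'.1 hz
  obtain ⟨G, rfl⟩ := (D.ev_bijective hT he).2 c
  refine ⟨G, ?_⟩
  have : D.ev T e (1 - Polynomial.X * G) = g := by
    rw [map_sub, map_one, map_mul, ev_X, ← hgz]
    ring
  rw [this]
  exact hg

/-- `c` is the coefficient of degree `n` of the expansion of `a` along the zero section. -/
def Exp {O : D.A.spec.Opens} (a : Γ(D.A.spec, O)) (T : X.Opens) (e : Γ(L, T)) (n : ℕ) (c : Γ(X, T)) : Prop :=
  ∃ (O' : D.A.spec.Opens) (h1 : O' ≤ O) (h2 : O' ≤ D.A.π ⁻¹ᵁ T) (_ : ∀ x ∈ T, D.j0 x ∈ O')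
    (F : Polynomial Γ(X, T)) (r : Γ(D.A.spec, O')),
      F.coeff n = c ∧ rs h1 a = rs h2 (D.ev T e F) + rs h2 (D.t T e) ^ (n + 1) * r

variable {D} {O : D.A.spec.Opens} {a : Γ(D.A.spec, O)} {T : X.Opens} {e : Γ(L, T)}

theorem Exp.restrict {n : ℕ} {c : Γ(X, T)} (h : D.Exp a T e n c) {T' : X.Opens} (hle : T' ≤ T) :
    D.Exp a T' (L.presheaf.map (homOfLE hle).op e) n (X.presheaf.map (homOfLE hle).op c) := by
  obtain ⟨O', h1, h2, hj, F, r, rfl, hr⟩ := h
  refine ⟨O' ⊓ D.A.π ⁻¹ᵁ T', inf_le_left.trans h1, inf_le_right, fun x hx => ⟨hj x (hle hx), D.mem_preimage_j0 hx⟩,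
    F.map (X.presheaf.map (homOfLE hle).op).hom, rs inf_le_left r, Polynomial.coeff_map _ _, ?_⟩
  have h := congrArg (rs (inf_le_left : O' ⊓ D.A.π ⁻¹ᵁ T' ≤ O')) hr
  rw [map_add, map_mul, map_pow, rs_rs, rs_rs, rs_rs] at h
  rw [h, ← D.ev_res hle, ← D.t_res hle]
  exact congrArg₂ (· + ·) (rs_rs _ _ _).symm (congrArg (fun z => z ^ (n + 1) * _) (rs_rs _ _ _).symm)

theorem Exp.smul {u : Γ(X, T)} {n : ℕ} {c : Γ(X, T)} (h : D.Exp a T (u • e) n c) :
    D.Exp a T e n (c * u ^ n) := by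
  obtain ⟨O', h1, h2, hj, F, r, rfl, hr⟩ := h
  refine ⟨O', h1, h2, hj, F.comp (Polynomial.C u * Polynomial.X), rs h2 (D.A.π.app T u) ^ (n + 1) * r,
    Polynomial.comp_C_mul_X_coeff, ?_⟩
  rw [hr, ← D.ev_smul, D.t_smul, map_mul, mul_pow]
  ring

theorem Exp.mono {n m : ℕ} (hmn : m ≤ n) {O' : D.A.spec.Opens} (h1 : O' ≤ O) (h2 : O' ≤ D.A.π ⁻¹ᵁ T)
    (hj : ∀ x ∈ T, D.j0 x ∈ O') {F : Polynomial Γ(X, T)} {r : Γ(D.A.spec, O')}
    (hr : rs h1 a = rs h2 (D.ev T e F) + rs h2 (D.t T e) ^ (n + 1) * r) :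
    D.Exp a T e m (F.coeff m) := by
  refine ⟨O', h1, h2, hj, F, rs h2 (D.t T e) ^ (n - m) * r, rfl, ?_⟩
  rw [hr, ← mul_assoc, ← pow_add, show m + 1 + (n - m) = n + 1 by omega]

/-- Functions on a basic open as fractions. -/
theorem exists_frac (hT : IsAffineOpen T) (he : IsGen L e) (P : Polynomial Γ(X, T))
    (r : Γ(D.A.spec, D.A.spec.basicOpen (D.ev T e P))) :
    ∃ (N : Polynomial Γ(X, T)) (m : ℕ),
      r * rs (D.A.spec.basicOpen_le _) (D.ev T e (P ^ m)) = rs (D.A.spec.basicOpen_le _) (D.ev T e N) := by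
  haveI := (hT.preimage D.A.π).isLocalization_basicOpen (D.ev T e P)
  obtain ⟨⟨b, _, m, rfl⟩, hb⟩ := IsLocalization.surj (Submonoid.powers (D.ev T e P)) r
  obtain ⟨N, rfl⟩ := (D.ev_bijective hT he).2 b
  refine ⟨N, m, ?_⟩
  rw [map_pow]
  exact hb

/-- Polynomials with the same restriction to a basic open agree up to a power. -/
theorem exists_pow_mul_of_rs_eq (hT : IsAffineOpen T) (he : IsGen L e) (P : Polynomial Γ(X, T))
    {A B : Polynomial Γ(X, T)}
    (h : rs (D.A.spec.basicOpen_le (D.ev T e P)) (D.ev T e A) = rs (D.A.spec.basicOpen_le _) (D.ev T e B)) :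
    ∃ m : ℕ, P ^ m * A = P ^ m * B := by
  haveI := (hT.preimage D.A.π).isLocalization_basicOpen (D.ev T e P)
  obtain ⟨⟨_, m, rfl⟩, hm⟩ := IsLocalization.exists_of_eq (M := Submonoid.powers (D.ev T e P))
    (S := Γ(D.A.spec, D.A.spec.basicOpen (D.ev T e P))) h
  refine ⟨m, (D.ev_bijective hT he).1 ?_⟩
  rw [map_mul, map_mul, map_pow]
  exact hm

theorem rs_eq_zero_aux (hT : IsAffineOpen T) (he : IsGen L e) {O' : D.A.spec.Opens} (h2 : O' ≤ D.A.π ⁻¹ᵁ T)
    (hj : ∀ x ∈ T, D.j0 x ∈ O') {n : ℕ} {F : Polynomial Γ(X, T)} {r : Γ(D.A.spec, O')}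
    (h : rs h2 (D.ev T e F) = rs h2 (D.t T e) ^ (n + 1) * r) : F.coeff n = 0 := by
  obtain ⟨G, hG⟩ := D.exists_basicOpen_le_nhd hT he hj
  obtain ⟨N, m, hN⟩ := exists_frac hT he (1 - Polynomial.X * G) (rs hG r)
  have h' := congrArg (fun z => rs hG z * rs (D.A.spec.basicOpen_le _) (D.ev T e ((1 - Polynomial.X * G) ^ m))) h
  beta_reduce at h'
  rw [map_mul, mul_assoc, hN, rs_rs, map_pow (rs hG), rs_rs, ← D.ev_X, ← map_pow, ← map_pow, ← map_mul,
    ← map_mul, ← map_mul, ← map_mul] at h'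
  obtain ⟨l, hl⟩ := exists_pow_mul_of_rs_eq hT he _ h'
  have hdvd : Polynomial.X ^ (n + 1) ∣ (1 - Polynomial.X * G) ^ (l + m) * F :=
    ⟨(1 - Polynomial.X * G) ^ l * N, by
      rw [pow_add, mul_assoc, mul_comm _ F, hl]
      ring⟩
  exact (Polynomial.X_pow_dvd_iff.1 ((isCoprime_X_pow G _ _).dvd_of_dvd_mul_left hdvd)) n n.lt_succ_self

theorem Exp.unique (hT : IsAffineOpen T) (he : IsGen L e) {n : ℕ} {c c' : Γ(X, T)} (h : D.Exp a T e n c)
    (h' : D.Exp a T e n c') : c = c' := by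
  obtain ⟨O₁, h1, h2, hj, F, r, rfl, hr⟩ := h
  obtain ⟨O₂, h1', h2', hj', F', r', rfl, hr'⟩ := h'
  have e1 := congrArg (rs (inf_le_left : O₁ ⊓ O₂ ≤ O₁)) hr
  have e2 := congrArg (rs (inf_le_right : O₁ ⊓ O₂ ≤ O₂)) hr'
  rw [map_add, map_mul, map_pow, rs_rs, rs_rs, rs_rs] at e1 e2
  rw [e1] at e2
  rw [← sub_eq_zero, ← Polynomial.coeff_sub]
  refine rs_eq_zero_aux hT he (inf_le_left.trans h2 : O₁ ⊓ O₂ ≤ D.A.π ⁻¹ᵁ T) (fun x hx => ⟨hj x hx, hj' x hx⟩)
    (r := rs inf_le_right r' - rs inf_le_left r) ?_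
  rw [map_sub, map_sub, mul_sub]
  linear_combination e2

/-- Simultaneous expansions to every order. -/
theorem exists_expansions (hT : IsAffineOpen T) (he : IsGen L e) (hO : ∀ x ∈ T, D.j0 x ∈ O)
    (a : Γ(D.A.spec, O)) :
    ∃ (G N : Polynomial Γ(X, T)) (m : ℕ) (h : D.A.spec.basicOpen (D.ev T e (1 - Polynomial.X * G)) ≤ O),
      rs h a * rs (D.A.spec.basicOpen_le _) (D.ev T e ((1 - Polynomial.X * G) ^ m)) =
          rs (D.A.spec.basicOpen_le _) (D.ev T e N) ∧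
      ∀ n, ∃ u v : Polynomial Γ(X, T), u * Polynomial.X ^ (n + 1) + v * (1 - Polynomial.X * G) ^ m = 1 ∧
        D.Exp a T e n ((N * v).coeff n) := by
  obtain ⟨G, hG⟩ := D.exists_basicOpen_le_nhd hT he hO
  obtain ⟨N, m, hN⟩ := exists_frac hT he (1 - Polynomial.X * G) (rs hG a)
  refine ⟨G, N, m, hG, hN, fun n => ?_⟩
  obtain ⟨u, v, huv⟩ := isCoprime_X_pow G (n + 1) m
  refine ⟨u, v, huv, ?_⟩
  let P := D.ev T e (1 - Polynomial.X * G)
  have hP2 : D.A.spec.basicOpen P ≤ D.A.π ⁻¹ᵁ T := D.A.spec.basicOpen_le _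
  refine ⟨D.A.spec.basicOpen P, hG, hP2, fun x hx => ?_, N * v, rs hG a * rs hP2 (D.ev T e u), rfl, ?_⟩
  · rw [D.j0_mem_basicOpen_iff hx, D.jsec_ev]
    simpa [Scheme.mem_basicOpen _ _ _ hx] using hx
  · have h1 : rs hP2 (D.ev T e N) * rs hP2 (D.ev T e v) = rs hP2 (D.ev T e (N * v)) := by
      rw [← map_mul, ← map_mul]
    rw [← h1, ← hN]
    have h2 := congrArg (fun z => rs hP2 (D.ev T e z)) huv
    simp only [map_add, map_mul, map_pow, map_one, ev_X] at h2 ⊢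
    linear_combination (-(rs hG a)) * h2

theorem exists_exp (hT : IsAffineOpen T) (he : IsGen L e) (hO : ∀ x ∈ T, D.j0 x ∈ O) (a : Γ(D.A.spec, O)) (n : ℕ) :
    ∃ c, D.Exp a T e n c := by
  obtain ⟨G, N, m, h, -, hall⟩ := exists_expansions hT he hO a
  obtain ⟨u, v, -, hv⟩ := hall n
  exact ⟨_, hv⟩

/-- The constant term is the restriction to the zero section. -/
theorem Exp.zero_eq {c : Γ(X, T)} (h : D.Exp a T e 0 c) (hle : T ≤ D.j0 ⁻¹ᵁ O) :
    D.j0.appLE O T hle a = c := by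
  obtain ⟨O', h1, h2, hj, F, r, rfl, hr⟩ := h
  have hle' : T ≤ D.j0 ⁻¹ᵁ O' := fun x hx => hj x hx
  have := congrArg (fun z => D.j0.appLE O' T hle' z) hr
  beta_reduce at this
  rw [map_add, map_mul, map_pow] at this
  have hz : ∀ z, D.j0.appLE O' T hle' (rs h2 z) = D.jsec T z := fun z =>
    ConcreteCategory.congr_hom (Scheme.Hom.map_appLE D.j0 hle' (homOfLE h2).op) z
  rw [hz, hz, D.jsec_ev, D.jsec_t] at this
  simp only [zero_add, pow_one, zero_mul, add_zero] at this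
  rw [← this]
  exact (ConcreteCategory.congr_hom (Scheme.Hom.map_appLE D.j0 hle' (homOfLE h1).op) a).symm

/-- `a` is nonzero at the generic point of the fibre over `x` iff one of its coefficients is nonzero at `x`. -/
theorem generic_mem_iff (hT : IsAffineOpen T) (he : IsGen L e) (hO : ∀ x ∈ T, D.j0 x ∈ O) {x : X} (hx : x ∈ T)
    {η : D.A.spec} (hη : ∀ F, η ∈ D.A.spec.basicOpen (D.ev T e F) ↔ ∃ i, x ∈ X.basicOpen (F.coeff i))
    (a : Γ(D.A.spec, O)) :
    η ∈ O ∧ (η ∈ D.A.spec.basicOpen a ↔ ∃ n c, D.Exp a T e n c ∧ x ∈ X.basicOpen c) := by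
  obtain ⟨G, N, m, h, hN, hall⟩ := exists_expansions hT he hO a
  let P := D.ev T e (1 - Polynomial.X * G)
  have hηP : η ∈ D.A.spec.basicOpen P := (hη _).2 ⟨0, by simpa [Scheme.mem_basicOpen _ _ _ hx] using hx⟩
  refine ⟨h hηP, ?_⟩
  have hP2 : D.A.spec.basicOpen P ≤ D.A.π ⁻¹ᵁ T := D.A.spec.basicOpen_le _
  have key : η ∈ D.A.spec.basicOpen a ↔ η ∈ D.A.spec.basicOpen (D.ev T e N) := by
    have hu : IsUnit (D.A.spec.presheaf.germ _ η hηP (rs hP2 (D.ev T e ((1 - Polynomial.X * G) ^ m)))) := by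
      rw [map_pow, map_pow, map_pow]
      refine IsUnit.pow m ?_
      rw [TopCat.Presheaf.germ_res_apply, ← Scheme.mem_basicOpen _ _ _ (hP2 hηP)]
      exact hηP
    have := congrArg (D.A.spec.presheaf.germ _ η hηP) hN
    rw [map_mul, TopCat.Presheaf.germ_res_apply, TopCat.Presheaf.germ_res_apply] at this
    rw [TopCat.Presheaf.germ_res_apply] at hu
    rw [Scheme.mem_basicOpen _ _ _ (h hηP), Scheme.mem_basicOpen _ _ _ (hP2 hηP)]
    refine Iff.trans ?_ (Iff.of_eq (congrArg IsUnit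
      (this.trans (TopCat.Presheaf.germ_res_apply D.A.spec.presheaf _ _ _ _))))
    exact (IsUnit.mul_iff.trans ⟨And.left, fun hh => ⟨hh, hu⟩⟩).symm
  rw [key, hη N]
  let p := (hT.primeIdealOf ⟨x, hx⟩).asIdeal
  have hp : ∀ c : Γ(X, T), x ∈ X.basicOpen c ↔ c ∉ p := fun c => by
    refine Iff.trans ?_ (SetLike.ext_iff.1 (hT.fromSpec_preimage_basicOpen c) (hT.primeIdealOf ⟨x, hx⟩))
    exact Iff.of_eq (congrArg (· ∈ X.basicOpen c) (hT.fromSpec_primeIdealOf ⟨x, hx⟩).symm)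
  simp only [hp]
  constructor
  · rintro ⟨i, hi⟩
    obtain ⟨u, v, huv, hexp⟩ := hall i
    by_contra hcon
    push Not at hcon
    have hlow : ∀ k ≤ i, (N * v).coeff k ∈ p := fun k hk => by
      obtain ⟨O', h1, h2, hj, F, r, hF, hr⟩ := hexp
      obtain ⟨c, hc⟩ := exists_exp hT he hO a k
      have hxp := hcon k c hc
      obtain ⟨u', v', huv', hexp'⟩ := hall k
      have hsame : (N * v).coeff k = (N * v').coeff k := by
        have hd : Polynomial.X ^ (k + 1) ∣ (N * v - N * v') * (1 - Polynomial.X * G) ^ m := by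
          refine ⟨N * (u' - u * Polynomial.X ^ (i - k)), ?_⟩
          have : (Polynomial.X : Polynomial Γ(X, T)) ^ (i + 1) = Polynomial.X ^ (k + 1) * Polynomial.X ^ (i - k) := by
            rw [← pow_add, show k + 1 + (i - k) = i + 1 by omega]
          rw [this] at huv
          linear_combination N * huv - N * huv'
        have := Polynomial.X_pow_dvd_iff.1 ((isCoprime_X_pow G _ _).dvd_of_dvd_mul_right hd) k k.lt_succ_self
        rwa [Polynomial.coeff_sub, sub_eq_zero] at this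
      rw [hsame]
      exact (hexp'.unique hT he hc).symm ▸ hxp
    refine hi ?_
    have hN' : N = (N * v) * (1 - Polynomial.X * G) ^ m + N * u * Polynomial.X ^ (i + 1) := by
      linear_combination (-N) * huv
    rw [hN', Polynomial.coeff_add, Polynomial.coeff_mul_X_pow', if_neg (by omega), add_zero, Polynomial.coeff_mul]
    refine Ideal.sum_mem _ fun kl hkl => Ideal.mul_mem_right _ _ (hlow kl.1 ?_)
    exact (Finset.HasAntidiagonal.mem_antidiagonal.1 hkl) ▸ Nat.le_add_right _ _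
  · rintro ⟨n, c, hc, hxc⟩
    by_contra hcon
    push Not at hcon
    obtain ⟨u, v, huv, hexp⟩ := hall n
    refine hxc ?_
    rw [hc.unique hT he hexp]
    exact (Ideal.mem_map_C_iff.1 (Ideal.mul_mem_right v _ (Ideal.mem_map_C_iff.2 hcon))) n

end LB

end Groth.Agent.H11Cone
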