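import Groth.Agent.H7Lim.Birational
import Groth.Prelude.Def_Pi1
import Mathlib.AlgebraicGeometry.Morphisms.UniversallyInjective
import Mathlib.AlgebraicGeometry.Morphisms.Integral

/-!
# Universally closed radicial birational morphisms onto normal schemes
-/

set_option autoImplicit false
set_option linter.style.haveILetI false

noncomputable section

universe u

open CategoryTheory CategoryTheory.Limits AlgebraicGeometry Opposite TopologicalSpace

namespace Groth.Agent.H11Cone

theorem isIntegrallyClosed_stalk {V : Scheme.{u}} (hV : Pi1.IsNormalScheme V) (y : V) :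
    IsIntegrallyClosed (V.presheaf.stalk y) := (hV y).2

/-- Universally closed injective morphisms are integral. -/
theorem isIntegralHom_of_injective {U V : Scheme.{u}} (h : U ⟶ V) [UniversallyClosed h]
    (hinj : Function.Injective h.base) : IsIntegralHom h := by
  have he : Topology.IsClosedEmbedding h.base :=
    .of_continuous_injective_isClosedMap h.continuous hinj h.isClosedMap
  haveI := isAffineHom_of_isInducing h he.isInducing he.isClosed_range
  exact IsIntegralHom.iff_universallyClosed_and_isAffineHom.2 ⟨inferInstance, inferInstance⟩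

/-- An injective universally closed morphism onto a normal integral scheme, iso at the generic point, is iso. -/
theorem isIso_of_injective_birational {U V : Scheme.{u}} [IsIntegral U] [IsIntegral V]
    (hN : Pi1.IsNormalScheme V) (h : U ⟶ V) [UniversallyClosed h] (hinj : Function.Injective h.base)
    (hgen : h (genericPoint U) = genericPoint V) [IsIso (h.stalkMap (genericPoint U))] : IsIso h := by
  haveI := isIntegralHom_of_injective h hinj
  exact H7Lim.isIso_of_isIntegralHom_birational (isIntegrallyClosed_stalk hN) h hgen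

/-- At generic points a bijective map of residue fields is a bijective map of stalks. -/
theorem isIso_stalkMap_of_bijective_residueFieldMap {U V : Scheme.{u}} [IsIntegral U] [IsIntegral V]
    (h : U ⟶ V) (hgen : h (genericPoint U) = genericPoint V)
    (hbij : Function.Bijective (h.residueFieldMap (genericPoint U)).hom) :
    IsIso (h.stalkMap (genericPoint U)) := by
  have hfU : IsField (U.presheaf.stalk (genericPoint U)) := Field.toIsField U.functionField
  have hfV : IsField (V.presheaf.stalk (h (genericPoint U))) := by
    rw [hgen]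
    exact Field.toIsField V.functionField
  have hrU : Function.Injective (U.residue (genericPoint U)).hom := by
    rw [RingHom.injective_iff_ker_eq_bot]
    exact IsLocalRing.ker_residue.trans ((IsLocalRing.isField_iff_maximalIdeal_eq).1 hfU)
  have hcomm : ∀ a, h.residueFieldMap (genericPoint U) (V.residue (h (genericPoint U)) a) =
      U.residue (genericPoint U) (h.stalkMap (genericPoint U) a) := fun a =>
    ConcreteCategory.congr_hom (Scheme.residue_residueFieldMap h (genericPoint U)) a
  rw [ConcreteCategory.isIso_iff_bijective]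
  letI := hfV.toField
  refine ⟨(h.stalkMap (genericPoint U)).hom.injective, fun b => ?_⟩
  obtain ⟨c, hc⟩ := hbij.2 (U.residue (genericPoint U) b)
  obtain ⟨a, rfl⟩ := IsLocalRing.residue_surjective c
  exact ⟨a, hrU ((hcomm a).symm.trans hc)⟩

/-- An integral morphism with a rational section sends generic point to generic point birationally. -/
theorem birational_of_section {X X' : Scheme.{u}} [IsIntegral X] [IsIntegral X'] (g : X' ⟶ X) [IsIntegralHom g]
    (U : X.Opens) (hU : Dense (U : Set X)) (s : (U : Scheme.{u}) ⟶ X') (hs : s ≫ g = U.ι) :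
    g (genericPoint X') = genericPoint X ∧ Function.Bijective (g.residueFieldMap (genericPoint X')).hom := by
  have hη : genericPoint X ∈ U :=
    ((genericPoint_spec X).mem_open_set_iff U.2).2 (by simpa using hU.nonempty)
  let η : U := ⟨genericPoint X, hη⟩
  have hgs : g (s η) = genericPoint X := by
    rw [← Scheme.Hom.comp_apply, hs]
    rfl
  have hsp : genericPoint X' ⤳ s η := (genericPoint_spec X').specializes (Set.mem_univ _)
  have hgen : g (genericPoint X') = genericPoint X := by
    refine ((genericPoint_spec X).specializes (Set.mem_univ _)).antisymm ?_ |>.eq.symm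
    have := hsp.map g.continuous
    rwa [hgs] at this
  have hpt : s η = genericPoint X' := by
    obtain ⟨W, hW, hxW, -⟩ := exists_isAffineOpen_mem_and_subset (U := (⊤ : X.Opens)) (x := genericPoint X) trivial
    have h1 : genericPoint X' ∈ g ⁻¹ᵁ W := show g (genericPoint X') ∈ W by rw [hgen]; exact hxW
    have h2 : s η ∈ g ⁻¹ᵁ W := show g (s η) ∈ W by rw [hgs]; exact hxW
    have hA : IsAffineOpen (g ⁻¹ᵁ W) := hW.preimage g
    let P := hA.primeIdealOf ⟨_, h1⟩
    let Q := hA.primeIdealOf ⟨_, h2⟩
    have hbasic : ∀ (v : X') (hv : v ∈ g ⁻¹ᵁ W) (f : Γ(X', g ⁻¹ᵁ W)),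
        f ∈ (hA.primeIdealOf ⟨v, hv⟩).asIdeal ↔ v ∉ X'.basicOpen f := fun v hv f => by
      have h5 : hA.fromSpec (hA.primeIdealOf ⟨v, hv⟩) ∈ X'.basicOpen f ↔
          f ∉ (hA.primeIdealOf ⟨v, hv⟩).asIdeal :=
        SetLike.ext_iff.1 (hA.fromSpec_preimage_basicOpen f) (hA.primeIdealOf ⟨v, hv⟩)
      rw [hA.fromSpec_primeIdealOf ⟨v, hv⟩] at h5
      exact (not_iff_comm.1 h5.symm).symm
    have hPQ : P.asIdeal ≤ Q.asIdeal := fun f hf => by
      rw [hbasic] at hf ⊢
      exact fun h => hf (hsp.mem_open (X'.basicOpen f).2 h)
    have hcomap : P.asIdeal.comap (g.app W).hom = Q.asIdeal.comap (g.app W).hom := by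
      ext c
      rw [Ideal.mem_comap, Ideal.mem_comap, hbasic, hbasic, ← Scheme.preimage_basicOpen]
      exact not_congr (Iff.of_eq (congrArg (· ∈ X.basicOpen c) (hgen.trans hgs.symm)))
    letI := (g.app W).hom.toAlgebra
    haveI : Algebra.IsIntegral Γ(X, W) Γ(X', g ⁻¹ᵁ W) := ⟨IsIntegralHom.isIntegral_app g W hW⟩
    have hPQ' : P = Q := by
      by_contra hne
      obtain ⟨x, hxQ, hxP⟩ := SetLike.exists_of_lt (lt_of_le_of_ne hPQ fun e => hne (PrimeSpectrum.ext e))
      exact (Ideal.comap_lt_comap_of_integral_mem_sdiff (R := Γ(X, W)) hPQ ⟨hxQ, hxP⟩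
        (Algebra.IsIntegral.isIntegral x)).ne hcomap
    have h3 := congrArg hA.fromSpec hPQ'
    rwa [IsAffineOpen.fromSpec_primeIdealOf, IsAffineOpen.fromSpec_primeIdealOf, eq_comm] at h3
  refine ⟨hgen, ?_⟩
  rw [← hpt]
  have h4 : Scheme.Hom.residueFieldMap g (s η) ≫ Scheme.Hom.residueFieldMap s η =
      (s ≫ g).residueFieldMap η := (Scheme.residueFieldMap_comp s g η).symm
  have key : ∀ (k : U.toScheme ⟶ X), k = U.ι → Function.Bijective (k.residueFieldMap η).hom := by
    rintro k rfl
    exact ConcreteCategory.bijective_of_isIso (U.ι.residueFieldMap η)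
  have hb := key _ hs
  rw [← h4] at hb
  replace hb : Function.Bijective ((s.residueFieldMap η).hom ∘ (g.residueFieldMap (s η)).hom) := hb
  refine ⟨(g.residueFieldMap (s η)).hom.injective, fun b => ?_⟩
  obtain ⟨a, ha⟩ := hb.2 (s.residueFieldMap η b)
  exact ⟨a, (s.residueFieldMap η).hom.injective ha⟩

end Groth.Agent.H11Cone
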