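import Groth.Agent.H11Cone.Affinization
import Groth.Agent.H11Cone.ToNormal
import Groth.Agent.H17.Reduced
import Groth.Agent.H11Ample.Twist

/-!
# Contractions of the zero section factor through the affinisation (EGA II 8.8.4, 8.11.1)
-/

set_option autoImplicit false
set_option linter.style.haveILetI false

noncomputable section

universe u

open CategoryTheory CategoryTheory.Limits AlgebraicGeometry Opposite TopologicalSpace
open Groth.Agent.H11Sym Groth.Agent.H11Aff Groth.Agent.H11Tilde Groth.Agent.H11Ample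
open Groth.Agent.H7Lim.Approx

namespace Groth.Agent.H11Cone

theorem isIntegral_of_cover {V : Scheme.{u}} {ι : Type u} [Nonempty ι] (W : ι → V.Opens) (hW : IsOpenCover W)
    (hint : ∀ i, IsIntegral (W i : Scheme.{u})) (hmeet : ∀ i j, ((W i : Set V) ∩ W j).Nonempty) :
    IsIntegral V := by
  haveI : ∀ i, IsReduced ((V.openCoverOfIsOpenCover W hW).X i) := fun i => by
    haveI := hint i
    exact inferInstanceAs (IsReduced (W i : Scheme.{u}))
  haveI : IsReduced V := IsReduced.of_openCover V (V.openCoverOfIsOpenCover W hW)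
  have hirr : ∀ i, IsPreirreducible (W i : Set V) := fun i => by
    haveI := hint i
    have h := (PreirreducibleSpace.isPreirreducible_univ (X := (W i : Scheme.{u}))).image
      (W i).ι.base (W i).ι.continuous.continuousOn
    rwa [Set.image_univ, Scheme.Opens.range_ι] at h
  haveI : Nonempty V := ⟨(hmeet (Classical.arbitrary ι) (Classical.arbitrary ι)).some⟩
  haveI : IrreducibleSpace V := by
    refine @IrreducibleSpace.mk _ _ ⟨fun A B hA hB ⟨a, _, ha⟩ ⟨b, _, hb⟩ => ?_⟩ inferInstance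
    obtain ⟨i, hi⟩ := Opens.mem_iSup.1 (hW.iSup_eq_top.ge (trivial : a ∈ (⊤ : V.Opens)))
    obtain ⟨j, hj⟩ := Opens.mem_iSup.1 (hW.iSup_eq_top.ge (trivial : b ∈ (⊤ : V.Opens)))
    obtain ⟨c, hc⟩ := hmeet i j
    obtain ⟨d, hdi, hdA, hdj⟩ := hirr i A (W j) hA (W j).2 ⟨a, hi, ha⟩ ⟨c, hc⟩
    obtain ⟨e, -, heA, heB⟩ := hirr j A B hA hB ⟨d, hdj, hdA⟩ ⟨b, hj, hb⟩
    exact ⟨e, trivial, heA, heB⟩
  exact isIntegral_of_irreducibleSpace_of_isReduced V

theorem LB.exists_notMem_j0 {X : Scheme.{u}} {L : X.Modules} (D : LB L) (hL : PicF.IsInvertible L) (x : X) :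
    ∃ v, v ∉ Set.range D.j0 ∧ D.A.π v = x := by
  obtain ⟨T, e, hcov, hT, he⟩ := exists_affine_gen_cover hL
  obtain ⟨i, hi⟩ := Opens.mem_iSup.1 (hcov.iSup_eq_top.ge (trivial : x ∈ (⊤ : X.Opens)))
  obtain ⟨v, hv, hπv, hgen⟩ := D.exists_generic (hT i) (he i) hi
  refine ⟨v, fun hmem => ?_, hπv⟩
  have h1 : v ∈ D.A.spec.basicOpen (D.ev (T i) (e i) Polynomial.X) :=
    (hgen _).2 ⟨1, by rw [Polynomial.coeff_X_one, Scheme.basicOpen_of_isUnit _ isUnit_one]; exact hi⟩
  rw [D.ev_X] at h1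
  exact ((D.range_compl_inter (hT i) (he i)).ge h1).1 hmem

theorem LB.isIntegral {X : Scheme.{u}} {L : X.Modules} (D : LB L) (hL : PicF.IsInvertible L) [IsIntegral X] :
    IsIntegral D.A.spec := by
  obtain ⟨T, e, hcov, hT, he⟩ := exists_affine_gen_cover hL
  let ι := {i : X // (T i : Set X).Nonempty}
  have hη : ∀ i : ι, genericPoint X ∈ T i.1 := fun i =>
    ((genericPoint_spec X).mem_open_set_iff (T i.1).2).2 (by simpa using i.2)
  haveI : Nonempty ι := by
    obtain ⟨i, hi⟩ := hcov.exists_mem (genericPoint X)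
    exact ⟨⟨i, _, hi⟩⟩
  refine isIntegral_of_cover (fun i : ι => D.A.π ⁻¹ᵁ T i.1) (IsOpenCover.mk (eq_top_iff.2 fun v _ => ?_))
    (fun i => ?_) (fun i j => ⟨D.j0 (genericPoint X), D.mem_preimage_j0 (hη i), D.mem_preimage_j0 (hη j)⟩)
  · obtain ⟨i, hi⟩ := Opens.mem_iSup.1 (hcov.iSup_eq_top.ge (trivial : D.A.π v ∈ (⊤ : X.Opens)))
    exact Opens.mem_iSup.2 ⟨⟨i, _, hi⟩, hi⟩
  · haveI : Nonempty (T i.1) := ⟨⟨_, hη i⟩⟩
    haveI : IsDomain Γ(X, T i.1) := IsIntegral.component_integral (T i.1)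
    haveI : Nonempty (D.A.π ⁻¹ᵁ T i.1 : Scheme.{u}) := ⟨⟨_, D.mem_preimage_j0 (hη i)⟩⟩
    haveI : IsAffine (D.A.π ⁻¹ᵁ T i.1 : Scheme.{u}) := (hT i.1).preimage D.A.π
    haveI : IsDomain Γ(D.A.spec, D.A.π ⁻¹ᵁ T i.1) :=
      (RingEquiv.ofBijective _ (D.ev_bijective (hT i.1) (he i.1))).symm.toMulEquiv.isDomain _
    haveI : IsDomain Γ((D.A.π ⁻¹ᵁ T i.1 : Scheme.{u}), ⊤) :=
      (D.A.π ⁻¹ᵁ T i.1).topIso.commRingCatIsoToRingEquiv.toMulEquiv.isDomain _
    exact isIntegral_of_isAffine_of_isDomain _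

theorem bijective_appLE_directImage {S X : Scheme.{u}} (f : X ⟶ S) [QuasiCompact f] [QuasiSeparated f]
    (q' : X ⟶ (RelSpec.QCAlg.directImage f).spec) (hq'π : q' ≫ (RelSpec.QCAlg.directImage f).π = f)
    (hq' : AffAlg.algHom (RelSpec.QCAlg.directImage f).π f q' hq'π = (RelSpec.QCAlg.directImage f).gammaMap)
    (U : S.affineOpens) : Function.Bijective (q'.appLE ((RelSpec.QCAlg.directImage f).π ⁻¹ᵁ U.1) (f ⁻¹ᵁ U.1)
      (preimage_le (RelSpec.QCAlg.directImage f).π f q' hq'π _)) := by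
  have h := algHom_app_eq_appLE (RelSpec.QCAlg.directImage f).π f q' hq'π U.1
    (preimage_le (RelSpec.QCAlg.directImage f).π f q' hq'π _)
  rw [hq'] at h
  haveI := RelSpecUniv.gammaMap_isIso (RelSpec.QCAlg.directImage f)
  haveI : IsIso ((RelSpec.QCAlg.directImage f).gammaMap.app (op U.1)) := inferInstance
  rw [← h]
  exact ConcreteCategory.bijective_of_isIso ((RelSpec.QCAlg.directImage f).gammaMap.app (op U.1))

variable {X Y C C' : Scheme.{u}} {L : X.Modules} (D : LB L) (p : X ⟶ Y) [IsProper p] (hθ : IsIso p.c)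
  (hamp : RelAmple.IsRelAmple p L) (g' : C' ⟶ Y) [IsAffineHom g'] (q' : D.A.spec ⟶ C')
  (hq'g : q' ≫ g' = D.A.π ≫ p)
  (hbij : ∀ U : Y.affineOpens, Function.Bijective
    (q'.appLE (g' ⁻¹ᵁ U.1) ((D.A.π ≫ p) ⁻¹ᵁ U.1) (preimage_le g' (D.A.π ≫ p) hq'g _)))
  (g : C ⟶ Y) (ε : Y ⟶ C) (q : D.A.spec ⟶ C)

include hθ hamp hbij

theorem exists_factor (hqg : q ≫ g = D.A.π ≫ p) (hjq : D.j0 ≫ q = p ≫ ε) :
    ∃! u : C' ⟶ C, u ≫ g = g' ∧ q' ≫ u = q := by
  obtain ⟨ε', hε'g, hj, hqp, hsurj, hpsurj, happ, hopen, hr⟩ :=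
    affinization_props D p hθ hamp g' q' hq'g hbij
  haveI := hsurj
  haveI := hqp
  have hcl : IsClosed (Set.range D.j0) := by
    haveI : IsClosedImmersion (D.j0 ≫ D.A.π) := D.j0_π ▸ inferInstance
    haveI := IsClosedImmersion.of_comp D.j0 D.A.π
    exact D.j0.isClosedEmbedding.isClosed_range
  let V0 : D.A.spec.Opens := ⟨(Set.range D.j0)ᶜ, hcl.isOpen_compl⟩
  obtain ⟨hV0, hV0r⟩ := hopen V0 rfl
  have hout : ∀ v, v ∉ Set.range D.j0 → q' v ∉ Set.range ε'.base := fun v hv =>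
    hV0r.le ⟨⟨v, hv⟩, rfl⟩
  have hin : ∀ x, q' (D.j0 x) = ε' (p x) := fun x => by
    rw [← Scheme.Hom.comp_apply, hj, Scheme.Hom.comp_apply]
  obtain ⟨u, hu, huniq⟩ := existsUnique_factor q' q'.isClosedMap happ q (fun v v' h => by
    by_cases hv : v ∈ Set.range D.j0 <;> by_cases hv' : v' ∈ Set.range D.j0
    · obtain ⟨x, rfl⟩ := hv
      obtain ⟨x', rfl⟩ := hv'
      rw [hin, hin] at h
      have h' := congrArg g' h
      have hg : ∀ y, g' (ε' y) = y := fun y => by rw [← Scheme.Hom.comp_apply, hε'g]; rfl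
      have hq : ∀ y, q (D.j0 y) = ε (p y) := fun y => by
        rw [← Scheme.Hom.comp_apply, hjq, Scheme.Hom.comp_apply]
      rw [hg, hg] at h'
      rw [hq, hq]
      exact congrArg ε h'
    · obtain ⟨x, rfl⟩ := hv
      exact absurd ⟨p x, (hin x).symm.trans h⟩ (hout v' hv')
    · obtain ⟨x, rfl⟩ := hv'
      exact absurd ⟨p x, (hin x).symm.trans h.symm⟩ (hout v hv)
    · exact congrArg q (congrArg Subtype.val
        ((V0.ι ≫ q').isOpenEmbedding.injective (show (V0.ι ≫ q') ⟨v, hv⟩ = (V0.ι ≫ q') ⟨v', hv'⟩ from h))))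
  refine ⟨u, ⟨?_, hu⟩, fun u' hu' => huniq u' hu'.2⟩
  exact eq_of_comp_eq q' (fun N => (happ N).1) (by rw [reassoc_of% hu, hqg, hq'g])

variable (hε : ε ≫ g = 𝟙 Y) (hjq : D.j0 ≫ q = p ≫ ε) [IsProper q] (V0 : D.A.spec.Opens)
  (hV0 : (V0 : Set D.A.spec) = (Set.range D.j0)ᶜ) (hqo : IsOpenImmersion (V0.ι ≫ q))
  (hqr : Set.range (V0.ι ≫ q).base = (Set.range ε.base)ᶜ)
  (u : C' ⟶ C) (hug : u ≫ g = g') (hu : q' ≫ u = q)

include hjq hV0 hqo hqr hug hu

theorem factor_props :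
    UniversallyClosed u ∧ Function.Surjective u.base ∧ UniversallyInjective u ∧
      ∀ W : C'.Opens, (W : Set C') = (q'.base '' Set.range D.j0.base)ᶜ →
        IsOpenImmersion (W.ι ≫ u) ∧ Set.range (W.ι ≫ u).base = (Set.range ε.base)ᶜ := by
  obtain ⟨ε', hε'g, hj, hqp, hsurj, hpsurj, happ, hopen, hr⟩ :=
    affinization_props D p hθ hamp g' q' hq'g hbij
  haveI := hsurj
  haveI := hpsurj
  haveI huc : UniversallyClosed u := by
    haveI : UniversallyClosed (q' ≫ u) := hu ▸ inferInstance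
    exact UniversallyClosed.of_comp_surjective q' u
  have huε : ε' ≫ u = ε := by
    refine eq_of_comp_eq p (fun N => ?_) ?_
    · haveI := hθ
      haveI : IsIso (p.app N) := inferInstanceAs (IsIso (p.c.app (op N)))
      exact (ConcreteCategory.bijective_of_isIso (p.app N)).1
    · rw [← reassoc_of% hj, hu, hjq]
  have hus : Function.Surjective u.base := fun c => by
    by_cases hc : c ∈ Set.range ε.base
    · obtain ⟨y, rfl⟩ := hc
      exact ⟨ε' y, by rw [← huε]; rfl⟩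
    · obtain ⟨v, hv⟩ := hqr.ge hc
      exact ⟨q' v.1, by rw [← hv, ← hu]; rfl⟩
  obtain ⟨hq'o, hq'r⟩ := hopen V0 hV0
  have hW : ∀ W : C'.Opens, (W : Set C') = (q'.base '' Set.range D.j0.base)ᶜ →
      IsOpenImmersion (W.ι ≫ u) ∧ Set.range (W.ι ≫ u).base = (Set.range ε.base)ᶜ := by
    intro W hW
    have hrange : Set.range (V0.ι ≫ q').base = Set.range W.ι.base := by
      rw [hq'r, hr, Scheme.Opens.range_ι, hW]
    let e := IsOpenImmersion.isoOfRangeEq (V0.ι ≫ q') W.ι hrange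
    have he : W.ι ≫ u = e.inv ≫ V0.ι ≫ q := by
      rw [← hu, ← IsOpenImmersion.isoOfRangeEq_inv_fac (V0.ι ≫ q') W.ι hrange]
      simp only [Category.assoc]
      rfl
    rw [he]
    refine ⟨inferInstance, ?_⟩
    rw [← hqr, Scheme.Hom.comp_base, TopCat.coe_comp, Set.range_comp,
      Set.range_eq_univ.2 e.inv.surjective, Set.image_univ]
  refine ⟨huc, hus, ((tfae_universallyInjective u).out 0 1).2 fun K inst a b hab => ?_, hW⟩
  haveI : IsAffineHom g' := inferInstance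
  haveI : IsClosedImmersion (ε' ≫ g') := hε'g ▸ inferInstance
  haveI : IsClosedImmersion ε' := IsClosedImmersion.of_comp ε' g'
  let W : C'.Opens := ⟨(Set.range ε'.base)ᶜ, ε'.isClosedEmbedding.isClosed_range.isOpen_compl⟩
  have hWc : (W : Set C') = (q'.base '' Set.range D.j0.base)ᶜ := by rw [← hr]; rfl
  obtain ⟨hWo, hWr⟩ := hW W hWc
  haveI := hWo
  have hmem : ∀ w : C', u w ∈ Set.range ε.base ↔ w ∈ Set.range ε'.base := fun w => by
    refine ⟨fun hw => ?_, ?_⟩
    · by_contra hn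
      exact hWr.le ⟨⟨w, hn⟩, rfl⟩ hw
    · rintro ⟨y, rfl⟩
      exact ⟨y, by rw [← huε]; rfl⟩
  letI : Field K := inst
  change a ≫ u = b ≫ u at hab
  let c := IsLocalRing.closedPoint K
  have hpt : ∀ t : Spec (.of K), t = c := fun t => Subsingleton.elim _ _
  have hab' : u (a c) = u (b c) := by
    rw [← Scheme.Hom.comp_apply, ← Scheme.Hom.comp_apply]
    exact congrArg (fun k : Spec (.of K) ⟶ C => k c) hab
  by_cases hc : a c ∈ Set.range ε'.base
  · have hc' : b c ∈ Set.range ε'.base := (hmem _).1 (hab' ▸ (hmem _).2 hc)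
    obtain ⟨a', rfl⟩ := H17.exists_lift_immersion_of_range_subset a ε' (by
      rintro _ ⟨t, rfl⟩; rw [hpt t]; exact hc)
    obtain ⟨b', rfl⟩ := H17.exists_lift_immersion_of_range_subset b ε' (by
      rintro _ ⟨t, rfl⟩; rw [hpt t]; exact hc')
    have h' := congrArg (· ≫ g) hab
    simp only [Category.assoc, hug, hε'g, Category.comp_id] at h'
    rw [h']
  · have hc' : b c ∉ Set.range ε'.base := fun h => hc ((hmem _).1 (hab'.symm ▸ (hmem _).2 h))
    have ha : Set.range a ⊆ Set.range W.ι := by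
      rintro _ ⟨t, rfl⟩; rw [hpt t, Scheme.Opens.range_ι]; exact hc
    have hb : Set.range b ⊆ Set.range W.ι := by
      rintro _ ⟨t, rfl⟩; rw [hpt t, Scheme.Opens.range_ι]; exact hc'
    have h' : IsOpenImmersion.lift W.ι a ha = IsOpenImmersion.lift W.ι b hb := by
      rw [← cancel_mono (W.ι ≫ u), IsOpenImmersion.lift_fac_assoc, IsOpenImmersion.lift_fac_assoc]
      exact hab
    rw [← IsOpenImmersion.lift_fac W.ι a ha, h', IsOpenImmersion.lift_fac]

theorem isIso_factor (hL : PicF.IsInvertible L) [IsIntegral X] (hC : Pi1.IsNormalScheme C) : IsIso u := by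
  obtain ⟨ε', hε'g, hj, hqp, hsurj, hpsurj, happ, hopen, hr⟩ :=
    affinization_props D p hθ hamp g' q' hq'g hbij
  obtain ⟨huc, hus, hui, hW⟩ :=
    factor_props D p hθ hamp g' q' hq'g hbij g ε q hjq V0 hV0 hqo hqr u hug hu
  haveI := hsurj
  haveI := huc
  haveI := hui
  haveI := D.isIntegral hL
  haveI : IsIntegral C' :=
    { nonempty := ⟨q' (genericPoint D.A.spec)⟩
      component_integral := fun U hU => by
        haveI : Nonempty (q' ⁻¹ᵁ U) := by
          obtain ⟨⟨w, hw⟩⟩ := hU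
          obtain ⟨v, rfl⟩ := q'.surjective w
          exact ⟨⟨v, hw⟩⟩
        haveI : IsDomain Γ(D.A.spec, q' ⁻¹ᵁ U) := IsIntegral.component_integral _
        exact (RingEquiv.ofBijective (q'.app U).hom (happ U)).toMulEquiv.isDomain _ }
  haveI : IrreducibleSpace C := by
    refine @IrreducibleSpace.mk _ _ ⟨?_⟩ (Nonempty.map u.base ⟨genericPoint C'⟩)
    have h := (PreirreducibleSpace.isPreirreducible_univ (X := C')).image u.base u.continuous.continuousOn
    rwa [Set.image_univ, Set.range_eq_univ.2 hus] at h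
  haveI : ∀ c, _root_.IsReduced (C.presheaf.stalk c) := fun c => by
    haveI := (hC c).1
    infer_instance
  haveI : IsReduced C := isReduced_of_isReduced_stalk C
  haveI : IsIntegral C := isIntegral_of_irreducibleSpace_of_isReduced C
  have hgen : u (genericPoint C') = genericPoint C := by
    refine ((genericPoint_spec C).eq ?_).symm
    have h := (genericPoint_spec C').image u.continuous
    rwa [Set.image_univ, Set.range_eq_univ.2 hus, closure_univ] at h
  have hηW : genericPoint C' ∉ Set.range ε'.base := by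
    obtain ⟨v, hv, -⟩ := D.exists_notMem_j0 hL (genericPoint X)
    haveI : IsClosedImmersion (ε' ≫ g') := hε'g ▸ inferInstance
    haveI : IsClosedImmersion ε' := IsClosedImmersion.of_comp ε' g'
    exact ((genericPoint_spec C').mem_open_set_iff ε'.isClosedEmbedding.isClosed_range.isOpen_compl).2
      ⟨q' v, trivial, (hopen V0 hV0).2.le ⟨⟨v, hV0.ge hv⟩, rfl⟩⟩
  haveI : IsClosedImmersion (ε' ≫ g') := hε'g ▸ inferInstance
  haveI : IsClosedImmersion ε' := IsClosedImmersion.of_comp ε' g'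
  let W : C'.Opens := ⟨(Set.range ε'.base)ᶜ, ε'.isClosedEmbedding.isClosed_range.isOpen_compl⟩
  obtain ⟨hWo, -⟩ := hW W (by rw [← hr]; rfl)
  haveI := hWo
  haveI : IsIso (u.stalkMap (genericPoint C')) := by
    let w : (W : Scheme.{u}) := ⟨genericPoint C', hηW⟩
    haveI : IsIso (u.stalkMap (W.ι w) ≫ W.ι.stalkMap w) := by
      rw [← Scheme.Hom.stalkMap_comp]
      exact (IsOpenImmersion.iff_isIso_stalkMap.1 hWo).2 w
    exact IsIso.of_isIso_comp_right (u.stalkMap (W.ι w)) (W.ι.stalkMap w)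
  exact isIso_of_injective_birational hC u u.injective hgen

end Groth.Agent.H11Cone
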