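import Mathlib.AlgebraicGeometry.Pullbacks
import Mathlib.AlgebraicGeometry.ResidueField
import Mathlib.AlgebraicGeometry.Morphisms.FiniteType
import Mathlib.RingTheory.PolynomialAlgebra
import Mathlib.RingTheory.TensorProduct.MonoidAlgebra
import Mathlib.Algebra.Polynomial.Laurent

/-!
# Fibres of morphisms which are locally `R → R[T]` or `R → R[T, T⁻¹]`
-/

set_option autoImplicit false
set_option linter.style.haveILetI false
universe u

namespace Groth.Agent.H11Cone.Fibre

open CategoryTheory CategoryTheory.Limits AlgebraicGeometry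

variable {X Y : Scheme.{u}} {π : X ⟶ Y} {R : CommRingCat.{u}} (j : Spec R ⟶ Y) [IsOpenImmersion j]
  {B : Type u} [CommRing B] {ψ : R →+* B} {c : Spec (CommRingCat.of B) ⟶ X}
  (h : IsPullback (Spec.map (CommRingCat.ofHom ψ)) c j π) {x : Y} (hx : x ∈ Set.range j.base)

include h hx

theorem exists_iso_of_isPushout {D : Type u} [CommRing D] (d : Y.residueField x →+* D)
    (hD : ∀ φ : R →+* Y.residueField x, ∃ m : B →+* D,
      IsPushout (CommRingCat.ofHom ψ) (CommRingCat.ofHom φ) (CommRingCat.ofHom m) (CommRingCat.ofHom d)) :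
    ∃ e : pullback π (Y.fromSpecResidueField x) ≅ Spec (CommRingCat.of D),
      e.hom ≫ Spec.map (CommRingCat.ofHom d) = pullback.snd π (Y.fromSpecResidueField x) := by
  obtain ⟨l, hl⟩ : ∃ l : Spec (Y.residueField x) ⟶ Spec R, l ≫ j = Y.fromSpecResidueField x := by
    refine ⟨IsOpenImmersion.lift j (Y.fromSpecResidueField x) ?_, IsOpenImmersion.lift_fac _ _ _⟩
    rw [Scheme.range_fromSpecResidueField]
    exact Set.singleton_subset_iff.2 hx
  obtain ⟨φ, rfl⟩ := Spec.map_surjective l
  obtain ⟨m, hm⟩ := hD φ.hom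
  have sq : IsPullback (Spec.map (CommRingCat.ofHom m) ≫ c) (Spec.map (CommRingCat.ofHom d)) π
      (Spec.map φ ≫ j) := (isPullback_SpecMap_of_isPushout _ _ _ _ hm).paste_horiz h.flip
  rw [hl] at sq
  exact ⟨sq.isoPullback.symm, sq.isoPullback_inv_snd⟩

/-- Fibres of a morphism which is locally `R → R[T]`. -/
theorem exists_iso_polynomial (ε : Polynomial R ≃+* B) (hε : ε.toRingHom.comp Polynomial.C = ψ) :
    ∃ e : pullback π (Y.fromSpecResidueField x) ≅ Spec (CommRingCat.of (Polynomial (Y.residueField x))),
      e.hom ≫ Spec.map (CommRingCat.ofHom (algebraMap (Y.residueField x) (Polynomial (Y.residueField x)))) =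
        pullback.snd π (Y.fromSpecResidueField x) := by
  refine exists_iso_of_isPushout j h hx _ fun φ => ⟨(Polynomial.mapRingHom φ).comp ε.symm.toRingHom, ?_⟩
  letI : Algebra R (Y.residueField x) := φ.toAlgebra
  letI : Algebra (Polynomial R) (Polynomial (Y.residueField x)) := (Polynomial.mapRingHom φ).toAlgebra
  haveI : IsScalarTower R (Polynomial R) (Polynomial (Y.residueField x)) :=
    .of_algebraMap_eq' (RingHom.ext fun a => (Polynomial.map_C φ).symm)
  haveI : Algebra.IsPushout R (Polynomial R) (Y.residueField x) (Polynomial (Y.residueField x)) := inferInstance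
  have hp := CommRingCat.isPushout_of_isPushout R (Polynomial R) (Y.residueField x) (Polynomial (Y.residueField x))
  refine hp.of_iso (Iso.refl _) ε.toCommRingCatIso (Iso.refl _) (Iso.refl _) ?_ ?_ ?_ ?_
  · subst hε
    rfl
  · simp
  · refine CommRingCat.hom_ext (RingHom.ext fun p => ?_)
    simp [RingHom.algebraMap_toAlgebra]
  · simp

/-- Fibres of a morphism which is locally `R → R[T, T⁻¹]`. -/
theorem exists_iso_laurent (ε : LaurentPolynomial R ≃+* B) (hε : ε.toRingHom.comp LaurentPolynomial.C = ψ) :
    ∃ e : pullback π (Y.fromSpecResidueField x) ≅ Spec (CommRingCat.of (LaurentPolynomial (Y.residueField x))),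
      e.hom ≫ Spec.map (CommRingCat.ofHom (algebraMap (Y.residueField x) (LaurentPolynomial (Y.residueField x)))) =
        pullback.snd π (Y.fromSpecResidueField x) := by
  refine exists_iso_of_isPushout j h hx _ fun φ => ⟨(AddMonoidAlgebra.mapRingHom ℤ φ).comp ε.symm.toRingHom, ?_⟩
  letI : Algebra R (Y.residueField x) := φ.toAlgebra
  letI : Algebra (LaurentPolynomial R) (LaurentPolynomial (Y.residueField x)) :=
    (AddMonoidAlgebra.mapRingHom ℤ φ).toAlgebra
  haveI : IsScalarTower R (LaurentPolynomial R) (LaurentPolynomial (Y.residueField x)) :=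
    .of_algebraMap_eq' (RingHom.ext fun a => by simp [RingHom.algebraMap_toAlgebra])
  haveI : Algebra.IsPushout R (LaurentPolynomial R) (Y.residueField x) (LaurentPolynomial (Y.residueField x)) :=
    inferInstance
  have hp := CommRingCat.isPushout_of_isPushout R (LaurentPolynomial R) (Y.residueField x)
    (LaurentPolynomial (Y.residueField x))
  refine hp.of_iso (Iso.refl _) ε.toCommRingCatIso (Iso.refl _) (Iso.refl _) ?_ ?_ ?_ ?_
  · subst hε
    rfl
  · simp
  · refine CommRingCat.hom_ext (RingHom.ext fun p => ?_)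
    simp [RingHom.algebraMap_toAlgebra]
  · simp

end Groth.Agent.H11Cone.Fibre
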