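import Mathlib.RingTheory.GradedAlgebra.Homogeneous.Ideal
import Mathlib.RingTheory.Ideal.Quotient.Operations

set_option autoImplicit false
universe u

namespace Groth.Agent.H11Cone.GenDegOne

variable {A σ : Type u} [CommRing A] [SetLike σ A] [AddSubgroupClass σ A] (𝒜 : ℕ → σ) [GradedRing 𝒜]

theorem irrelevant_le_span (h : Subring.closure ((𝒜 0 : Set A) ∪ (𝒜 1 : Set A)) = ⊤) :
    (HomogeneousIdeal.irrelevant 𝒜).toIdeal ≤ Ideal.span (𝒜 1 : Set A) := by
  intro a ha
  let q := Ideal.Quotient.mk (Ideal.span (𝒜 1 : Set A))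
  have hle : Subring.closure ((𝒜 0 : Set A) ∪ (𝒜 1 : Set A)) ≤
      RingHom.eqLocus q (q.comp (GradedRing.projZeroRingHom 𝒜)) := by
    refine Subring.closure_le.2 ?_
    rintro x (hx | hx) <;> change q x = q (GradedRing.projZeroRingHom 𝒜 x)
    · rw [GradedRing.projZeroRingHom_apply, DirectSum.decompose_of_mem_same 𝒜 hx]
    · rw [GradedRing.projZeroRingHom_apply, DirectSum.decompose_of_mem_ne 𝒜 hx one_ne_zero, map_zero]
      exact Ideal.Quotient.eq_zero_iff_mem.2 (Ideal.subset_span hx)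
  have h1 : q a = q (GradedRing.projZeroRingHom 𝒜 a) := hle (h ▸ Subring.mem_top a)
  have h2 : GradedRing.projZeroRingHom 𝒜 a = 0 := ha
  rw [h2, map_zero] at h1
  exact Ideal.Quotient.eq_zero_iff_mem.1 h1

end Groth.Agent.H11Cone.GenDegOne
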