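import Groth.Agent.H11Cone.Expansion
import Groth.Agent.H11Ample.Ample
import Groth.Agent.H11Ample.Restrict
import Groth.Agent.H11Proj.VeryAmpleOn
import Groth.Agent.H10Coh.AmpleVanishing

/-!
# Sections of powers from compatible coefficients, and functions on the line bundle from sections
-/

set_option autoImplicit false
set_option linter.style.haveILetI false

noncomputable section

universe u

open CategoryTheory CategoryTheory.Limits AlgebraicGeometry Opposite TopologicalSpace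
open Groth.Agent.H11Sym Groth.Agent.H11Aff Groth.Agent.H11Tilde Groth.Agent.H11Ample

namespace Groth.Agent.H11Cone

/-- Compatible coefficients with respect to local generators define a section of a power. -/
theorem exists_section_of_coef {Z : Scheme.{u}} {M : Z.Modules} (hM : PicF.IsInvertible M) (n : ℕ)
    (P : ∀ (T : Z.Opens) (_ : Γ(M, T)), Γ(Z, T) → Prop)
    (hex : ∀ (T : Z.Opens) (e : Γ(M, T)), IsAffineOpen T → IsGen M e → ∃ c, P T e c)
    (huniq : ∀ (T : Z.Opens) (e : Γ(M, T)) (c c' : Γ(Z, T)),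
      IsAffineOpen T → IsGen M e → P T e c → P T e c' → c = c')
    (hres : ∀ (T T' : Z.Opens) (h : T' ≤ T) (e : Γ(M, T)) (c : Γ(Z, T)), P T e c →
      P T' (M.presheaf.map (homOfLE h).op e) (Z.presheaf.map (homOfLE h).op c))
    (hsmul : ∀ (T : Z.Opens) (e : Γ(M, T)) (u c : Γ(Z, T)), P T (u • e) c → P T e (c * u ^ n)) :
    ∃ s : Γ(CohB1.tensorPow M n, ⊤), ∀ (T : Z.Opens) (e : Γ(M, T)) (c : Γ(Z, T)), IsAffineOpen T →
      IsGen M e → P T e c → (CohB1.tensorPow M n).presheaf.map (homOfLE le_top).op s = c • spow e n := by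
  let F := CohB1.tensorPow M n
  let J := {i : Σ T : Z.affineOpens, Γ(M, T.1) // IsGen M i.2}
  choose c hc using fun i : J => hex i.1.1.1 i.1.2 i.1.1.2 i.2
  let sec : ∀ i : J, Γ(F, i.1.1.1) := fun i => c i • spow i.1.2 n
  have agree : ∀ (i : J) (T : Z.Opens) (e : Γ(M, T)) (d : Γ(Z, T)), IsGen M e → P T e d →
      ∀ (S : Z.Opens) (h1 : S ≤ i.1.1.1) (h2 : S ≤ T), IsAffineOpen S →
        F.presheaf.map (homOfLE h1).op (sec i) = F.presheaf.map (homOfLE h2).op (d • spow e n) := by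
    intro i T e d he hd S h1 h2 hS
    have p1 := hres _ _ h1 _ _ (hc i)
    have p2 := hres _ _ h2 _ _ hd
    obtain ⟨u, hu⟩ := (he.bijective h2).2 (M.presheaf.map (homOfLE h1).op i.1.2)
    beta_reduce at hu
    rw [← hu] at p1
    have := huniq S _ _ _ hS (he.res h2) (hsmul S _ u _ p1) p2
    refine (Scheme.Modules.map_smul F _ _ _).trans (Eq.trans ?_ (Scheme.Modules.map_smul F _ _ _).symm)
    rw [spow_res, spow_res, ← hu, spow_smul, smul_smul, this]
  have hcompat : TopCat.Presheaf.IsCompatible F.presheaf (fun i : J => i.1.1.1) sec := by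
    intro i k
    refine eq_of_locally (F := F) _ _ fun y hy => ?_
    obtain ⟨S, hS, hyS, hle⟩ := exists_affine_mem_le (W := i.1.1.1 ⊓ k.1.1.1) hy
    refine ⟨S, hle, hyS, ?_⟩
    refine (H10Coh.mres_mres _ _ _ _).trans ?_
    refine (agree i _ _ _ k.2 (hc k) S (hle.trans inf_le_left) (hle.trans inf_le_right) hS).trans ?_
    exact (H10Coh.mres_mres _ _ _ _).symm
  have hcov : (⊤ : Z.Opens) ≤ iSup fun i : J => i.1.1.1 := fun x _ => by
    obtain ⟨V, e, hxV, he⟩ := exists_gen hM x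
    obtain ⟨S, hS, hxS, hle⟩ := exists_affine_mem_le hxV
    exact Opens.mem_iSup.2 ⟨⟨⟨⟨S, hS⟩, M.presheaf.map (homOfLE hle).op e⟩, he.res hle⟩, hxS⟩
  obtain ⟨s, hs, -⟩ := TopCat.Sheaf.existsUnique_gluing' ⟨F.presheaf, F.isSheaf⟩ (fun i : J => i.1.1.1) ⊤
    (fun i => homOfLE le_top) hcov sec hcompat
  refine ⟨s, fun T e d hT he hd => ?_⟩
  let i : J := ⟨⟨⟨T, hT⟩, e⟩, he⟩
  refine (hs i).trans ?_
  have h := agree i T e d he hd T le_rfl le_rfl hT
  rwa [H10Coh.mres_self, H10Coh.mres_self] at h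

variable {X : Scheme.{u}} {L : X.Modules}

namespace LB

variable (D : LB L)

/-- A section of a power over an open as a function on the line bundle, homogeneous of degree `n`. -/
theorem exists_fn {W : X.Opens} (hM : PicF.IsInvertible (L.restrict W.ι)) (n : ℕ)
    (s : Γ(CohB1.tensorPow (L.restrict W.ι) n, ⊤)) :
    ∃ a : Γ(D.A.spec, D.A.π ⁻¹ᵁ W), ∀ (T : W.toScheme.Opens) (e : Γ(L.restrict W.ι, T)) (c : Γ(W.toScheme, T)),
      IsAffineOpen T → IsGen (L.restrict W.ι) e →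
      (CohB1.tensorPow (L.restrict W.ι) n).presheaf.map (homOfLE le_top).op s = c • spow e n →
      rs (D.A.π.preimage_mono (W.ι_image_le T)) a =
        D.A.π.app (W.ι ''ᵁ T) c * D.t (W.ι ''ᵁ T) (toImg W L e) ^ n := by
  let M := L.restrict W.ι
  let F := CohB1.tensorPow M n
  let J := {i : Σ T : W.toScheme.affineOpens, Γ(M, T.1) // IsGen M i.2}
  have hcoef : ∀ i : J, ∃ c : Γ(W.toScheme, i.1.1.1), F.presheaf.map (homOfLE le_top).op s = c • spow i.1.2 n :=
    fun i => exists_coeff (isGen_spow i.2 n) _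
  choose c hc using hcoef
  let sec : ∀ i : J, Γ(D.A.spec, D.A.π ⁻¹ᵁ (W.ι ''ᵁ i.1.1.1)) := fun i =>
    D.A.π.app (W.ι ''ᵁ i.1.1.1) (c i) * D.t (W.ι ''ᵁ i.1.1.1) (toImg W L i.1.2) ^ n
  have agree : ∀ (i : J) (T : W.toScheme.Opens) (e : Γ(M, T)) (d : Γ(W.toScheme, T)), IsGen M e →
      F.presheaf.map (homOfLE le_top).op s = d • spow e n →
      ∀ (S : W.toScheme.Opens) (h1 : S ≤ i.1.1.1) (h2 : S ≤ T),
        rs (D.A.π.preimage_mono (Scheme.Hom.image_mono W.ι h1)) (sec i) =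
          rs (D.A.π.preimage_mono (Scheme.Hom.image_mono W.ι h2))
            (D.A.π.app (W.ι ''ᵁ T) d * D.t (W.ι ''ᵁ T) (toImg W L e) ^ n) := by
    intro i T e d he hd S h1 h2
    obtain ⟨u, hu⟩ := (he.bijective h2).2 (M.presheaf.map (homOfLE h1).op i.1.2)
    beta_reduce at hu
    have e1 := congrArg (F.presheaf.map (homOfLE h1).op) (hc i)
    have e2 := congrArg (F.presheaf.map (homOfLE h2).op) hd
    rw [H10Coh.mres_mres, Scheme.Modules.map_smul, spow_res] at e1 e2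
    rw [← hu, spow_smul, smul_smul] at e1
    have hdu : W.toScheme.presheaf.map (homOfLE h1).op (c i) * u ^ n = W.toScheme.presheaf.map (homOfLE h2).op d := by
      refine ((isGen_spow (he.res h2) n).bijective le_rfl).1 ?_
      beta_reduce
      rw [H10Coh.mres_self]
      exact e1.symm.trans e2
    rw [map_mul, map_mul, map_pow, map_pow]
    have t1 := D.t_res (Scheme.Hom.image_mono W.ι h1) (toImg W L i.1.2)
    have t2 := D.t_res (Scheme.Hom.image_mono W.ι h2) (toImg W L e)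
    have hu' : L.presheaf.map (homOfLE (Scheme.Hom.image_mono W.ι h1)).op (toImg W L i.1.2) =
        (show Γ(X, W.ι ''ᵁ S) from u) • L.presheaf.map (homOfLE (Scheme.Hom.image_mono W.ι h2)).op (toImg W L e) := by
      rw [← toImg_res W L h1, ← toImg_res W L h2, ← hu, toImg_smul, Scheme.Opens.ι_appIso]
      rfl
    rw [hu', D.t_smul] at t1
    rw [show rs _ (D.t _ (toImg W L i.1.2)) = _ from t1, show rs _ (D.t _ (toImg W L e)) = _ from t2]
    have q1 : ∀ (S' : X.Opens) (h : S' ≤ W.ι ''ᵁ T) (z : Γ(X, W.ι ''ᵁ T)), rs (D.A.π.preimage_mono h)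
        (D.A.π.app (W.ι ''ᵁ T) z) = D.A.π.app S' (X.presheaf.map (homOfLE h).op z) := fun S' h z =>
      (ConcreteCategory.congr_hom (D.A.π.naturality (homOfLE h).op) z).symm
    have q2 : ∀ (S' : X.Opens) (h : S' ≤ W.ι ''ᵁ i.1.1.1) (z : Γ(X, W.ι ''ᵁ i.1.1.1)), rs (D.A.π.preimage_mono h)
        (D.A.π.app (W.ι ''ᵁ i.1.1.1) z) = D.A.π.app S' (X.presheaf.map (homOfLE h).op z) := fun S' h z =>
      (ConcreteCategory.congr_hom (D.A.π.naturality (homOfLE h).op) z).symm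
    rw [q1 _ _ _, q2 _ _ _, mul_pow, ← mul_assoc, ← map_pow, ← map_mul]
    refine congrArg (fun z => D.A.π.app (W.ι ''ᵁ S) z * _) ?_
    exact hdu
  let U : J → D.A.spec.Opens := fun i => D.A.π ⁻¹ᵁ (W.ι ''ᵁ i.1.1.1)
  have hcompat : TopCat.Presheaf.IsCompatible D.A.spec.presheaf U sec := by
    intro i k
    have hinf : U i ⊓ U k ≤ iSup fun S : {S : W.toScheme.Opens // S ≤ i.1.1.1 ⊓ k.1.1.1} => D.A.π ⁻¹ᵁ (W.ι ''ᵁ S.1) := by
      intro v hv
      obtain ⟨y, hy, hyv⟩ := hv.1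
      obtain ⟨y', hy', hyv'⟩ := hv.2
      obtain rfl := W.ι.isOpenEmbedding.injective (hyv.trans hyv'.symm)
      exact Opens.mem_iSup.2 ⟨⟨_, le_rfl⟩, ⟨y, ⟨hy, hy'⟩, hyv⟩⟩
    refine D.A.spec.sheaf.eq_of_locally_eq'
      (fun S : {S : W.toScheme.Opens // S ≤ i.1.1.1 ⊓ k.1.1.1} => D.A.π ⁻¹ᵁ (W.ι ''ᵁ S.1)) (U i ⊓ U k)
      (fun S => homOfLE (le_inf (D.A.π.preimage_mono (Scheme.Hom.image_mono W.ι (S.2.trans inf_le_left)))
        (D.A.π.preimage_mono (Scheme.Hom.image_mono W.ι (S.2.trans inf_le_right))))) hinf _ _ fun S => ?_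
    refine (rs_rs _ _ _).trans ?_
    refine (agree i _ _ _ k.2 (hc k) S.1 (S.2.trans inf_le_left) (S.2.trans inf_le_right)).trans ?_
    exact (rs_rs _ _ _).symm
  have hcov : D.A.π ⁻¹ᵁ W ≤ iSup U := fun v hv => by
    obtain ⟨V, e, hxV, he⟩ := exists_gen hM (⟨D.A.π v, hv⟩ : W)
    obtain ⟨S, hS, hxS, hle⟩ := exists_affine_mem_le hxV
    exact Opens.mem_iSup.2 ⟨⟨⟨⟨S, hS⟩, M.presheaf.map (homOfLE hle).op e⟩, he.res hle⟩, ⟨_, hxS, rfl⟩⟩
  obtain ⟨a, ha, -⟩ := TopCat.Sheaf.existsUnique_gluing' ⟨D.A.spec.presheaf, D.A.spec.sheaf.property⟩ U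
    (D.A.π ⁻¹ᵁ W) (fun i => homOfLE (D.A.π.preimage_mono (W.ι_image_le _))) hcov sec hcompat
  refine ⟨a, fun T e d hT he hd => ?_⟩
  let i : J := ⟨⟨⟨T, hT⟩, e⟩, he⟩
  refine (ha i).trans ?_
  have h := agree i T e d he hd T le_rfl le_rfl
  simp only [rs, homOfLE_refl, op_id] at h
  erw [D.A.spec.presheaf.map_id] at h
  exact h

end LB

end Groth.Agent.H11Cone
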