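import Groth.Prelude.Def_RelSpec2
import Groth.Agent.H11Sym.SymSheaf
import Groth.Agent.H11Aff.RelSpecUniv
import Groth.Agent.H11Ample.Basic
import Mathlib.RingTheory.Polynomial.Basic
import Mathlib.RingTheory.Ideal.Quotient.Operations

/-!
# The line bundle of an invertible module and its zero section, over trivialising opens
-/

set_option autoImplicit false
set_option linter.style.haveILetI false

noncomputable section

universe u

open CategoryTheory CategoryTheory.Limits AlgebraicGeometry Opposite TopologicalSpace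
open Groth.Agent.H11Sym Groth.Agent.H11Aff Groth.Agent.H11Tilde

namespace Groth.Agent.H11Cone

variable {X : Scheme.{u}} {L : X.Modules}

/-- An algebra with a map from `L` that over affine opens is the symmetric algebra, and a section of its spectrum
killing the image of `L`. -/
structure LB (L : X.Modules) where
  /-- the algebra -/
  A : RelSpec.QCAlg X
  /-- the degree one inclusion -/
  jL : L ⟶ A.toModule
  isSym : IsAffSym jL
  /-- the zero section -/
  j0 : X ⟶ A.spec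
  j0_π : j0 ≫ A.π = 𝟙 X
  j0_zero : ∀ (T : X.Opens) (e : Γ(L, T)),
    j0.appLE (A.π ⁻¹ᵁ T) T (by rw [← Scheme.Hom.comp_preimage, j0_π]; exact le_rfl)
      ((RelSpecUniv.univMap A).app (op T) (japp jL T e)) = 0

namespace LB

variable (D : LB L)

theorem le_preimage (T : X.Opens) : T ≤ D.j0 ⁻¹ᵁ (D.A.π ⁻¹ᵁ T) := by
  rw [← Scheme.Hom.comp_preimage, D.j0_π]; exact le_rfl

/-- The coordinate attached to a local section of `L`. -/
def t (T : X.Opens) (e : Γ(L, T)) : Γ(D.A.spec, D.A.π ⁻¹ᵁ T) :=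
  (RelSpecUniv.univMap D.A).app (op T) (japp D.jL T e)

/-- Pull back along the zero section. -/
abbrev jsec (T : X.Opens) : Γ(D.A.spec, D.A.π ⁻¹ᵁ T) →+* Γ(X, T) :=
  (D.j0.appLE (D.A.π ⁻¹ᵁ T) T (D.le_preimage T)).hom

theorem jsec_t (T : X.Opens) (e : Γ(L, T)) : D.jsec T (D.t T e) = 0 := D.j0_zero T e

theorem jsec_app (T : X.Opens) (c : Γ(X, T)) : D.jsec T (D.A.π.app T c) = c := by
  change (D.A.π.app T ≫ D.j0.appLE (D.A.π ⁻¹ᵁ T) T (D.le_preimage T)) c = c
  rw [Scheme.Hom.app_eq_appLE, Scheme.Hom.appLE_comp_appLE]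
  have key : ∀ (g : X ⟶ X) (_ : g = 𝟙 X) (h : T ≤ g ⁻¹ᵁ T), g.appLE T T h = 𝟙 _ := by
    rintro _ rfl h
    simp [Scheme.Hom.appLE]
    exact X.presheaf.map_id _
  exact ConcreteCategory.congr_hom (key _ D.j0_π _) c

theorem t_res {T T' : X.Opens} (h : T' ≤ T) (e : Γ(L, T)) :
    D.A.spec.presheaf.map (homOfLE (D.A.π.preimage_mono h)).op (D.t T e) =
      D.t T' (L.presheaf.map (homOfLE h).op e) := by
  unfold t
  rw [japp_res]
  exact (ConcreteCategory.congr_hom ((RelSpecUniv.univMap D.A).naturality (homOfLE h).op) (japp D.jL T e)).symm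

theorem t_smul (T : X.Opens) (c : Γ(X, T)) (e : Γ(L, T)) : D.t T (c • e) = D.A.π.app T c * D.t T e := by
  unfold t
  rw [japp_smul, map_mul]
  exact congrArg (· * _) (ConcreteCategory.congr_hom (NatTrans.congr_app (RelSpecUniv.str_univMap D.A) (op T)) c)

/-- Polynomials in the coordinate. -/
def ev (T : X.Opens) (e : Γ(L, T)) : Polynomial Γ(X, T) →+* Γ(D.A.spec, D.A.π ⁻¹ᵁ T) :=
  Polynomial.eval₂RingHom (D.A.π.app T).hom (D.t T e)

theorem ev_C (T : X.Opens) (e : Γ(L, T)) (c : Γ(X, T)) : D.ev T e (Polynomial.C c) = D.A.π.app T c :=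
  Polynomial.eval₂_C _ _

theorem ev_X (T : X.Opens) (e : Γ(L, T)) : D.ev T e Polynomial.X = D.t T e :=
  Polynomial.eval₂_X _ _

theorem jsec_ev (T : X.Opens) (e : Γ(L, T)) (F : Polynomial Γ(X, T)) : D.jsec T (D.ev T e F) = F.coeff 0 := by
  suffices h : (D.jsec T).comp (D.ev T e) = Polynomial.constantCoeff from RingHom.congr_fun h F
  refine Polynomial.ringHom_ext (fun c => ?_) ?_
  · rw [RingHom.comp_apply, ev_C, jsec_app, Polynomial.constantCoeff_apply, Polynomial.coeff_C_zero]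
  · rw [RingHom.comp_apply, ev_X, jsec_t, Polynomial.constantCoeff_apply, Polynomial.coeff_X_zero]

theorem ev_bijective {T : X.Opens} (hT : IsAffineOpen T) {e : Γ(L, T)} (he : IsGen L e) :
    Function.Bijective (D.ev T e) := by
  letI := algOn D.A T
  have hS := D.isSym T hT
  have hbij : Function.Bijective fun r : Γ(X, T) => r • e := by
    have h1 := he.bijective (le_refl T)
    simpa only [H10Coh.mres_self] using h1
  let coef : Γ(L, T) ≃ₗ[Γ(X, T)] Γ(X, T) :=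
    (LinearEquiv.ofBijective (LinearMap.toSpanSingleton Γ(X, T) Γ(L, T) e) hbij).symm
  let φ : D.A.presheaf.obj (op T) →ₐ[Γ(X, T)] Polynomial Γ(X, T) :=
    hS.lift ((Polynomial.monomial 1).comp coef.toLinearMap)
  let ψ : Polynomial Γ(X, T) →ₐ[Γ(X, T)] D.A.presheaf.obj (op T) := Polynomial.aeval (japp D.jL T e)
  have hφ : ∀ m, φ (japp D.jL T m) = Polynomial.monomial 1 (coef m) := fun m =>
    IsSymmetricAlgebra.lift_eq hS _ m
  have hcoef : coef e = 1 := by
    rw [LinearEquiv.symm_apply_eq]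
    exact (one_smul _ _).symm
  have h1 : ψ.comp φ = AlgHom.id _ _ := by
    refine hS.algHom_ext (LinearMap.ext fun m => ?_)
    change ψ (φ (japp D.jL T m)) = japp D.jL T m
    rw [hφ, show ψ = Polynomial.aeval (japp D.jL T e) from rfl, Polynomial.aeval_monomial, pow_one]
    have hm : coef m • e = m := coef.symm_apply_apply m
    conv_rhs => rw [← hm, japp_smul]
    rfl
  have h2 : φ.comp ψ = AlgHom.id _ _ := by
    refine Polynomial.algHom_ext ?_
    rw [AlgHom.comp_apply, show ψ Polynomial.X = japp D.jL T e from Polynomial.aeval_X _, hφ, hcoef,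
      Polynomial.monomial_one_one_eq_X]
    rfl
  have hψ : Function.Bijective ψ :=
    Function.bijective_iff_has_inverse.2
      ⟨φ, fun F => AlgHom.congr_fun h2 F, fun a => AlgHom.congr_fun h1 a⟩
  haveI : IsIso ((RelSpecUniv.univMap D.A).app (op T)) := by
    haveI := RelSpecUniv.gammaMap_isIso D.A
    rw [RelSpecUniv.univMap]
    infer_instance
  have hcomp : (D.ev T e : Polynomial Γ(X, T) → _) =
      (RelSpecUniv.univMap D.A).app (op T) ∘ ψ := by
    suffices h : D.ev T e = ((RelSpecUniv.univMap D.A).app (op T)).hom.comp ψ.toRingHom from congrArg DFunLike.coe h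
    refine Polynomial.ringHom_ext (fun c => ?_) ?_
    · rw [ev_C, RingHom.comp_apply]
      erw [Polynomial.aeval_C]
      exact (ConcreteCategory.congr_hom (NatTrans.congr_app (RelSpecUniv.str_univMap D.A) (op T)) c).symm
    · rw [ev_X, RingHom.comp_apply]
      erw [Polynomial.aeval_X]
      rfl
  rw [hcomp]
  exact (ConcreteCategory.bijective_of_isIso ((RelSpecUniv.univMap D.A).app (op T))).comp hψ

theorem ev_res {T T' : X.Opens} (h : T' ≤ T) (e : Γ(L, T)) (F : Polynomial Γ(X, T)) :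
    D.A.spec.presheaf.map (homOfLE (D.A.π.preimage_mono h)).op (D.ev T e F) =
      D.ev T' (L.presheaf.map (homOfLE h).op e) (F.map (X.presheaf.map (homOfLE h).op).hom) := by
  suffices hh : (D.A.spec.presheaf.map (homOfLE (D.A.π.preimage_mono h)).op).hom.comp (D.ev T e) =
      (D.ev T' (L.presheaf.map (homOfLE h).op e)).comp (Polynomial.mapRingHom (X.presheaf.map (homOfLE h).op).hom) from
    RingHom.congr_fun hh F
  refine Polynomial.ringHom_ext (fun c => ?_) ?_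
  · rw [RingHom.comp_apply, RingHom.comp_apply, ev_C, Polynomial.coe_mapRingHom, Polynomial.map_C, ev_C]
    exact (ConcreteCategory.congr_hom (D.A.π.naturality (homOfLE h).op) c).symm
  · rw [RingHom.comp_apply, RingHom.comp_apply, ev_X, Polynomial.coe_mapRingHom, Polynomial.map_X, ev_X]
    exact D.t_res h e

theorem ev_smul (T : X.Opens) (e : Γ(L, T)) (u : Γ(X, T)) (F : Polynomial Γ(X, T)) :
    D.ev T (u • e) F = D.ev T e (F.comp (Polynomial.C u * Polynomial.X)) := by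
  suffices h : D.ev T (u • e) =
      (D.ev T e).comp (Polynomial.eval₂RingHom Polynomial.C (Polynomial.C u * Polynomial.X)) from
    RingHom.congr_fun h F
  refine Polynomial.ringHom_ext (fun c => ?_) ?_
  · simp [ev_C]
  · simp [ev_X, ev_C, t_smul]

theorem π_j0 (x : X) : D.A.π (D.j0 x) = x := by
  rw [← Scheme.Hom.comp_apply, D.j0_π]
  rfl

theorem mem_preimage_j0 {T : X.Opens} {x : X} (hx : x ∈ T) : D.j0 x ∈ D.A.π ⁻¹ᵁ T :=
  show D.A.π (D.j0 x) ∈ T by rw [D.π_j0]; exact hx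

theorem j0_mem_basicOpen_iff {T : X.Opens} {x : X} (hx : x ∈ T) (f : Γ(D.A.spec, D.A.π ⁻¹ᵁ T)) :
    D.j0 x ∈ D.A.spec.basicOpen f ↔ x ∈ X.basicOpen (D.jsec T f) := by
  change _ ↔ x ∈ X.basicOpen (X.presheaf.map (homOfLE (D.le_preimage T)).op (D.j0.app (D.A.π ⁻¹ᵁ T) f))
  rw [Scheme.basicOpen_res, ← Scheme.preimage_basicOpen]
  exact ⟨fun h => ⟨hx, h⟩, fun h => h.2⟩

theorem j0_notMem_basicOpen_t {T : X.Opens} (e : Γ(L, T)) {x : X} (hx : x ∈ T) :
    D.j0 x ∉ D.A.spec.basicOpen (D.t T e) := by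
  rw [D.j0_mem_basicOpen_iff hx, D.jsec_t, Scheme.basicOpen_zero]
  exact id

/-- Where the coordinate vanishes we are on the zero section. -/
theorem eq_j0_of_notMem {T : X.Opens} (hT : IsAffineOpen T) {e : Γ(L, T)} (he : IsGen L e) {v : D.A.spec}
    (hv : v ∈ D.A.π ⁻¹ᵁ T) (h : v ∉ D.A.spec.basicOpen (D.t T e)) : D.j0 (D.A.π v) = v := by
  have hw := D.mem_preimage_j0 (show D.A.π v ∈ T from hv)
  have hU : IsAffineOpen (D.A.π ⁻¹ᵁ T) := hT.preimage D.A.π
  have key : ∀ f : Γ(D.A.spec, D.A.π ⁻¹ᵁ T), v ∈ D.A.spec.basicOpen f ↔ D.j0 (D.A.π v) ∈ D.A.spec.basicOpen f := by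
    intro f
    obtain ⟨F, rfl⟩ := (D.ev_bijective hT he).2 f
    rw [D.j0_mem_basicOpen_iff hv, D.jsec_ev]
    have hF := Polynomial.X_mul_divX_add F
    have hgerm : D.A.spec.presheaf.germ _ v hv (D.ev T e F) =
        D.A.spec.presheaf.germ _ v hv (D.t T e) * D.A.spec.presheaf.germ _ v hv (D.ev T e F.divX) +
          D.A.spec.presheaf.germ _ v hv (D.A.π.app T (F.coeff 0)) := by
      conv_lhs => rw [← hF]
      rw [map_add, map_mul, ev_X, ev_C, map_add, map_mul]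
    have ht : D.A.spec.presheaf.germ _ v hv (D.t T e) ∈ IsLocalRing.maximalIdeal _ := by
      rw [IsLocalRing.mem_maximalIdeal, mem_nonunits_iff, ← Scheme.mem_basicOpen _ _ _ hv]
      exact h
    have h' : D.A.π v ∈ X.basicOpen (F.coeff 0) ↔ v ∈ D.A.spec.basicOpen (D.A.π.app T (F.coeff 0)) := by
      rw [← Scheme.preimage_basicOpen]
      exact Iff.rfl
    rw [h', Scheme.mem_basicOpen _ _ _ hv, Scheme.mem_basicOpen _ _ _ hv, ← not_iff_not, ← mem_nonunits_iff,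
      ← mem_nonunits_iff, ← IsLocalRing.mem_maximalIdeal, ← IsLocalRing.mem_maximalIdeal, hgerm]
    exact Ideal.add_mem_iff_right _ (Ideal.mul_mem_right _ _ ht)
  refine (Specializes.antisymm ?_ ?_).eq
  · refine specializes_iff_forall_open.2 fun O hO hvO => ?_
    obtain ⟨f, hf, hvf⟩ := hU.exists_basicOpen_le (V := ⟨O, hO⟩) ⟨v, hvO⟩ hv
    exact hf ((key f).1 hvf)
  · refine specializes_iff_forall_open.2 fun O hO hvO => ?_
    obtain ⟨f, hf, hvf⟩ := hU.exists_basicOpen_le (V := ⟨O, hO⟩) ⟨D.j0 (D.A.π v), hvO⟩ hw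
    exact hf ((key f).2 hvf)

/-- The complement of the zero section over a trivialising affine open. -/
theorem range_compl_inter {T : X.Opens} (hT : IsAffineOpen T) {e : Γ(L, T)} (he : IsGen L e) :
    (Set.range D.j0)ᶜ ∩ (D.A.π ⁻¹ᵁ T : Set D.A.spec) = D.A.spec.basicOpen (D.t T e) := by
  refine Set.ext fun v => ⟨fun ⟨hv, hT'⟩ => ?_, fun hv => ⟨?_, D.A.spec.basicOpen_le _ hv⟩⟩
  · by_contra hn
    exact hv ⟨_, D.eq_j0_of_notMem hT he hT' hn⟩
  · rintro ⟨x, rfl⟩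
    have hx : x ∈ T := by
      have h' : D.A.π (D.j0 x) ∈ T := D.A.spec.basicOpen_le _ hv
      rwa [D.π_j0] at h'
    exact D.j0_notMem_basicOpen_t e hx hv

/-- The generic point of the fibre over `x`. -/
theorem exists_generic {T : X.Opens} (hT : IsAffineOpen T) {e : Γ(L, T)} (he : IsGen L e) {x : X} (hx : x ∈ T) :
    ∃ v : D.A.spec, v ∈ D.A.π ⁻¹ᵁ T ∧ D.A.π v = x ∧
      ∀ F, v ∈ D.A.spec.basicOpen (D.ev T e F) ↔ ∃ i, x ∈ X.basicOpen (F.coeff i) := by
  have hU : IsAffineOpen (D.A.π ⁻¹ᵁ T) := hT.preimage D.A.π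
  let E := RingEquiv.ofBijective (D.ev T e) (D.ev_bijective hT he)
  let P : PrimeSpectrum Γ(D.A.spec, D.A.π ⁻¹ᵁ T) :=
    ⟨(Ideal.map Polynomial.C (hT.primeIdealOf ⟨x, hx⟩).asIdeal).comap E.symm.toRingHom,
      haveI : (Ideal.map (Polynomial.C : Γ(X, T) →+* _) (hT.primeIdealOf ⟨x, hx⟩).asIdeal).IsPrime :=
        Ideal.isPrime_map_C_of_isPrime
      Ideal.comap_isPrime _ _⟩
  have hv : hU.fromSpec P ∈ D.A.π ⁻¹ᵁ T := by
    have := Set.mem_range_self (f := hU.fromSpec) P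
    rw [IsAffineOpen.range_fromSpec] at this
    exact this
  have hp : ∀ c : Γ(X, T), x ∈ X.basicOpen c ↔ c ∉ (hT.primeIdealOf ⟨x, hx⟩).asIdeal := fun c => by
    refine Iff.trans ?_ (SetLike.ext_iff.1 (hT.fromSpec_preimage_basicOpen c) (hT.primeIdealOf ⟨x, hx⟩))
    exact Iff.of_eq (congrArg (· ∈ X.basicOpen c) (hT.fromSpec_primeIdealOf ⟨x, hx⟩).symm)
  have key : ∀ F, hU.fromSpec P ∈ D.A.spec.basicOpen (D.ev T e F) ↔ ∃ i, x ∈ X.basicOpen (F.coeff i) := fun F => by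
    refine (SetLike.ext_iff.1 (hU.fromSpec_preimage_basicOpen (D.ev T e F)) P).trans ?_
    change ¬ (E.symm (D.ev T e F) ∈ Ideal.map Polynomial.C _) ↔ _
    rw [show E.symm (D.ev T e F) = F from E.symm_apply_apply F, Ideal.mem_map_C_iff]
    push Not
    exact exists_congr fun i => (hp _).symm
  refine ⟨hU.fromSpec P, hv, ?_, key⟩
  have hc : ∀ c : Γ(X, T), D.A.π (hU.fromSpec P) ∈ X.basicOpen c ↔ x ∈ X.basicOpen c := fun c => by
    have h := key (Polynomial.C c)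
    rw [ev_C, ← Scheme.preimage_basicOpen] at h
    refine h.trans ⟨fun ⟨i, hi⟩ => ?_, fun h => ⟨0, by rwa [Polynomial.coeff_C_zero]⟩⟩
    rcases i with _ | i
    · rwa [Polynomial.coeff_C_zero] at hi
    · rw [Polynomial.coeff_C_succ, Scheme.basicOpen_zero] at hi
      exact hi.elim
  refine (Specializes.antisymm ?_ ?_).eq
  · refine specializes_iff_forall_open.2 fun O hO hO' => ?_
    obtain ⟨c, hc', hxc⟩ := hT.exists_basicOpen_le (V := ⟨O, hO⟩) ⟨x, hO'⟩ hx
    exact hc' ((hc c).2 hxc)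
  · refine specializes_iff_forall_open.2 fun O hO hO' => ?_
    obtain ⟨c, hc', hxc⟩ := hT.exists_basicOpen_le (V := ⟨O, hO⟩) ⟨_, hO'⟩ hv
    exact hc' ((hc c).1 hxc)

end LB

/-- The line bundle data of a graded symmetric algebra with augmentation and vertex. -/
theorem exists_LB (hLq : Coh.IsQCoh L) (𝒜 : RelProj.QCGrAlg X) (jL : L ⟶ 𝒜.toModule)
    (hA : RelProj.IsGrSymAlg L 𝒜 jL) (aug : 𝒜.toQCAlg ⟶ RelSpec.QCAlg.unit X)
    (haug : RelCone.IsAugmentation 𝒜 aug) (j0 : X ⟶ 𝒜.toQCAlg.spec) (hj0 : RelCone.IsVertex 𝒜 aug j0) :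
    ∃ (_ : IsAffSym (B := 𝒜.toQCAlg) jL) (hp : j0 ≫ 𝒜.toQCAlg.π = 𝟙 X), ∀ (T : X.Opens) (e : Γ(L, T)),
      j0.appLE (𝒜.toQCAlg.π ⁻¹ᵁ T) T (by rw [← Scheme.Hom.comp_preimage, hp]; exact le_rfl)
        ((RelSpecUniv.univMap 𝒜.toQCAlg).app (op T) (japp (B := 𝒜.toQCAlg) jL T e)) = 0 := by
  refine ⟨hA.1.isAffSym hLq, hj0.comp_π, fun T e => ?_⟩
  refine X.sheaf.eq_of_locally_eq' (fun W : {W : X.affineOpens // W.1 ≤ T} => W.1.1) T (fun W => homOfLE W.2)
    (fun x hx => ?_) _ _ fun W => ?_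
  · obtain ⟨W, hW, hxW, hle⟩ := exists_affine_mem_le hx
    exact Opens.mem_iSup.2 ⟨⟨⟨W, hW⟩, hle⟩, hxW⟩
  obtain ⟨⟨W, hW0⟩, hle⟩ := W
  have hW : IsAffineOpen W := hW0
  change X.presheaf.map (homOfLE hle).op _ = X.presheaf.map (homOfLE hle).op 0
  have e' : W ≤ j0 ⁻¹ᵁ (𝒜.toQCAlg.π ⁻¹ᵁ W) := by
    rw [← Scheme.Hom.comp_preimage, hj0.comp_π]; exact le_rfl
  have hkey : j0.appLE (𝒜.toQCAlg.π ⁻¹ᵁ W) W e' = 𝒜.toQCAlg.gammaAff W hW ≫ aug.hom.app (op W) := by
    refine Spec.map_injective ?_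
    rw [← cancel_mono (hW.preimage 𝒜.toQCAlg.π).fromSpec]
    refine (IsAffineOpen.SpecMap_appLE_fromSpec j0 (hW.preimage 𝒜.toQCAlg.π) hW e').trans
      ((hj0.chart W hW).trans ?_)
    exact (congrArg (fun z => Spec.map (aug.hom.app (op W)) ≫ z)
      (RelSpecUniv.gammaAff_fromSpec 𝒜.toQCAlg W hW).symm).trans
      ((Category.assoc _ _ _).symm.trans (congrArg (· ≫ _) (Spec.map_comp _ _).symm))
  rw [map_zero, ← ConcreteCategory.comp_apply (j0.appLE _ T _), Scheme.Hom.appLE_map,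
    ← Scheme.Hom.map_appLE j0 e' (homOfLE (𝒜.toQCAlg.π.preimage_mono hle)).op, hkey]
  have hn : 𝒜.toQCAlg.spec.presheaf.map (homOfLE (𝒜.toQCAlg.π.preimage_mono hle)).op
      ((RelSpecUniv.univMap 𝒜.toQCAlg).app (op T) (japp (B := 𝒜.toQCAlg) jL T e)) =
      (RelSpecUniv.univMap 𝒜.toQCAlg).app (op W) (japp (B := 𝒜.toQCAlg) jL W (L.presheaf.map (homOfLE hle).op e)) := by
    rw [japp_res]
    exact (ConcreteCategory.congr_hom ((RelSpecUniv.univMap 𝒜.toQCAlg).naturality (homOfLE hle).op) _).symm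
  refine (congrArg (fun z => (𝒜.toQCAlg.gammaAff W hW ≫ aug.hom.app (op W)) z) hn).trans ?_
  refine (congrArg (fun z => aug.hom.app (op W) z)
    (ConcreteCategory.congr_hom (RelSpecUniv.univMap_gammaAff 𝒜.toQCAlg W hW) _)).trans ?_
  exact haug W hW 0 _ (hA.2 W hW _)

/-- The line bundle data. -/
def mkLB (hLq : Coh.IsQCoh L) (𝒜 : RelProj.QCGrAlg X) (jL : L ⟶ 𝒜.toModule)
    (hA : RelProj.IsGrSymAlg L 𝒜 jL) (aug : 𝒜.toQCAlg ⟶ RelSpec.QCAlg.unit X)
    (haug : RelCone.IsAugmentation 𝒜 aug) (j0 : X ⟶ 𝒜.toQCAlg.spec) (hj0 : RelCone.IsVertex 𝒜 aug j0) : LB L where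
  A := 𝒜.toQCAlg
  jL := jL
  isSym := (exists_LB hLq 𝒜 jL hA aug haug j0 hj0).choose
  j0 := j0
  j0_π := hj0.comp_π
  j0_zero := (exists_LB hLq 𝒜 jL hA aug haug j0 hj0).choose_spec.choose_spec

end Groth.Agent.H11Cone
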