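import Groth.Prelude.Def_Cone
import Groth.Agent.H11Cone.ConeRetr

/-!
# The canonical retraction of the pointed affine cone
-/

set_option autoImplicit false
universe u

namespace Groth.Agent.H11Cone.PointedRetr

open CategoryTheory AlgebraicGeometry HomogeneousLocalization

variable {R A : Type u} [CommRing R] [CommRing A] [Algebra R A] {𝒜 : ℕ → Submodule R A} [GradedAlgebra 𝒜]

theorem chart_ι {d : ℕ} {f : A} (hf : f ∈ 𝒜 d) (hd : 0 < d) : Cone.chart hf hd ≫ (Cone.pointed 𝒜).ι =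
    Spec.map (CommRingCat.ofHom (algebraMap A (Localization.Away f))) :=
  IsOpenImmersion.lift_fac _ _ _

theorem isOpenImmersion_chart {d : ℕ} {f : A} (hf : f ∈ 𝒜 d) (hd : 0 < d) : IsOpenImmersion (Cone.chart hf hd) := by
  have : IsOpenImmersion (Cone.chart hf hd ≫ (Cone.pointed 𝒜).ι) := by
    rw [chart_ι hf hd]
    exact IsOpenImmersion.of_isLocalization f
  exact IsOpenImmersion.of_comp _ (Cone.pointed 𝒜).ι

theorem ι_chart_apply {d : ℕ} {f : A} (hf : f ∈ 𝒜 d) (hd : 0 < d)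
    (P : Spec (CommRingCat.of (Localization.Away f))) :
    (Cone.pointed 𝒜).ι (Cone.chart hf hd P) = ConeRetr.down P := by
  rw [← Scheme.Hom.comp_apply, chart_ι hf hd]
  rfl

theorem opensRange_chart {d : ℕ} {f : A} (hf : f ∈ 𝒜 d) (hd : 0 < d) [IsOpenImmersion (Cone.chart hf hd)] :
    (Cone.chart hf hd).opensRange = (Cone.pointed 𝒜).ι ⁻¹ᵁ Cone.coneOpen f := by
  ext x
  constructor
  · rintro ⟨P, rfl⟩
    change (Cone.pointed 𝒜).ι (Cone.chart hf hd P) ∈ Cone.coneOpen f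
    rw [ι_chart_apply]
    exact ConeRetr.self_notMem_down P
  · intro hx
    obtain ⟨P, hP⟩ : (Cone.pointed 𝒜).ι x ∈
        Set.range (PrimeSpectrum.comap (algebraMap A (Localization.Away f))) := by
      rw [PrimeSpectrum.localization_away_comap_range (Localization.Away f) f]
      exact hx
    refine ⟨P, (Cone.pointed 𝒜).ι.isOpenEmbedding.injective ?_⟩
    rw [ι_chart_apply]
    exact hP

theorem exists_chart_eq (x : (Cone.pointed 𝒜 : Scheme.{u})) : ∃ (d : ℕ) (f : A) (hd : 0 < d) (hf : f ∈ 𝒜 d),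
    ∃ P, Cone.chart hf hd P = x := by
  obtain ⟨d, hd, f, hf, hfx⟩ : ∃ d, 0 < d ∧ ∃ f ∈ 𝒜 d, f ∉ ((Cone.pointed 𝒜).ι x).asIdeal := by
    by_contra hc
    push Not at hc
    refine x.2 ((PrimeSpectrum.mem_zeroLocus _ _).2 ?_)
    exact (HomogeneousIdeal.toIdeal_irrelevant_le 𝒜).2 fun d hd a ha => hc d hd a ha
  have := isOpenImmersion_chart hf hd
  have h : x ∈ (Cone.chart hf hd).opensRange := by rw [opensRange_chart]; exact hfx
  exact ⟨d, f, hd, hf, h⟩

variable (π : (Cone.pointed 𝒜 : Scheme.{u}) ⟶ Proj 𝒜)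
    (hπ : ∀ (d : ℕ) (f : A) (hd : 0 < d) (hf : f ∈ 𝒜 d),
      Cone.chart hf hd ≫ π =
        Spec.map (CommRingCat.ofHom (algebraMap (Away 𝒜 f) (Localization.Away f))) ≫ Proj.awayι 𝒜 f hf hd)

include hπ

theorem π_chart_apply {d : ℕ} {f : A} (hf : f ∈ 𝒜 d) (hd : 0 < d)
    (P : Spec (CommRingCat.of (Localization.Away f))) : π (Cone.chart hf hd P) = ConeRetr.img 𝒜 hf hd P := by
  rw [← Scheme.Hom.comp_apply, hπ]
  rfl

theorem π_preimage {d : ℕ} {f : A} (hf : f ∈ 𝒜 d) (hd : 0 < d) :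
    π ⁻¹ᵁ Proj.basicOpen 𝒜 f = (Cone.pointed 𝒜).ι ⁻¹ᵁ Cone.coneOpen f := by
  ext x
  obtain ⟨e, g, he, hg, P, rfl⟩ := exists_chart_eq x
  change π (Cone.chart hg he P) ∈ Proj.basicOpen 𝒜 f ↔ (Cone.pointed 𝒜).ι (Cone.chart hg he P) ∈ Cone.coneOpen f
  rw [π_chart_apply π hπ, ι_chart_apply]
  exact ConeRetr.mem_basicOpen_img_iff 𝒜 hg he hf hd P

theorem π_asHomogeneousIdeal (x : (Cone.pointed 𝒜 : Scheme.{u})) :
    (π x).asHomogeneousIdeal = ((Cone.pointed 𝒜).ι x).asIdeal.homogeneousCore 𝒜 := by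
  obtain ⟨e, g, he, hg, P, rfl⟩ := exists_chart_eq x
  rw [π_chart_apply π hπ, ι_chart_apply]
  exact ConeRetr.img_eq_homogeneousCore 𝒜 hg he P

theorem isPullback_chart {d : ℕ} {f : A} (hf : f ∈ 𝒜 d) (hd : 0 < d) :
    IsPullback (Spec.map (CommRingCat.ofHom (algebraMap (Away 𝒜 f) (Localization.Away f)))) (Cone.chart hf hd)
      (Proj.awayι 𝒜 f hf hd) π := by
  have := isOpenImmersion_chart hf hd
  apply IsOpenImmersion.isPullback
  · exact hπ d f hd hf
  · rw [Proj.opensRange_awayι, opensRange_chart, π_preimage π hπ hf hd]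

theorem of_away {P : MorphismProperty Scheme.{u}} [IsZariskiLocalAtTarget P]
    (H : ∀ (i : ℕ) (s : A), 0 < i → s ∈ 𝒜 i →
      P (Spec.map (CommRingCat.ofHom (algebraMap (Away 𝒜 s) (Localization.Away s))))) : P π := by
  refine IsZariskiLocalAtTarget.of_openCover (Proj.affineOpenCover 𝒜).openCover fun j => ?_
  have h := (isPullback_chart π hπ j.2.2 j.1.2).flip
  have hj := H j.1 j.2.1 j.1.2 j.2.2
  rw [← h.isoPullback_hom_snd] at hj
  exact (P.cancel_left_of_respectsIso _ _).1 hj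

end Groth.Agent.H11Cone.PointedRetr
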