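import Groth.Agent.H11Cone.Fibre
import Groth.Agent.H11Proj.PolyAway
import Mathlib.AlgebraicGeometry.ProjectiveSpectrum.Functor
import Mathlib.AlgebraicGeometry.Morphisms.FiniteType
import Mathlib.RingTheory.FiniteType

/-!
# Morphisms which are locally `R → R[T]` or `R → R[T, T⁻¹]`
-/

set_option autoImplicit false
set_option linter.style.haveILetI false
universe u

namespace Groth.Agent.H11Cone.RetrFibre

open CategoryTheory CategoryTheory.Limits AlgebraicGeometry

variable {X Y : Scheme.{u}} {π : X ⟶ Y}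

/-- A chart of `π` of the form `R → R[T]`. -/
def PolyChartAt (π : X ⟶ Y) (y : Y) : Prop :=
  ∃ (R : CommRingCat.{u}) (j : Spec R ⟶ Y) (_ : IsOpenImmersion j) (B : Type u) (_ : CommRing B) (ψ : R →+* B)
    (c : Spec (CommRingCat.of B) ⟶ X) (ε : Polynomial R ≃+* B),
    IsPullback (Spec.map (CommRingCat.ofHom ψ)) c j π ∧ y ∈ j.opensRange ∧ ε.toRingHom.comp Polynomial.C = ψ

/-- A chart of `π` of the form `R → R[T, T⁻¹]`. -/
def LaurentChartAt (π : X ⟶ Y) (y : Y) : Prop :=
  ∃ (R : CommRingCat.{u}) (j : Spec R ⟶ Y) (_ : IsOpenImmersion j) (B : Type u) (_ : CommRing B) (ψ : R →+* B)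
    (c : Spec (CommRingCat.of B) ⟶ X) (ε : LaurentPolynomial R ≃+* B),
    IsPullback (Spec.map (CommRingCat.ofHom ψ)) c j π ∧ y ∈ j.opensRange ∧ ε.toRingHom.comp LaurentPolynomial.C = ψ

theorem finiteType_of_charts
    (H : ∀ y : Y, ∃ (R : CommRingCat.{u}) (j : Spec R ⟶ Y) (_ : IsOpenImmersion j) (B : Type u) (_ : CommRing B)
      (ψ : R →+* B) (c : Spec (CommRingCat.of B) ⟶ X),
      IsPullback (Spec.map (CommRingCat.ofHom ψ)) c j π ∧ y ∈ j.opensRange ∧ ψ.FiniteType) :
    LocallyOfFiniteType π ∧ QuasiCompact π := by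
  choose R j hj B hB ψ c hpb hy hft using H
  let 𝒰 : Y.OpenCover := .mkOfCovers Y (fun y => Spec (R y)) j (fun y => ⟨y, hy y⟩) hj
  constructor
  · refine IsZariskiLocalAtTarget.of_openCover 𝒰 fun y => ?_
    have h := (hpb y).flip
    have hl : LocallyOfFiniteType (Spec.map (CommRingCat.ofHom (ψ y))) :=
      (HasRingHomProperty.Spec_iff (P := @LocallyOfFiniteType)).2 (hft y)
    rw [← h.isoPullback_hom_snd] at hl
    exact (MorphismProperty.cancel_left_of_respectsIso (P := @LocallyOfFiniteType) _ _).1 hl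
  · refine IsZariskiLocalAtTarget.of_openCover 𝒰 fun y => ?_
    have h := (hpb y).flip
    have hl : QuasiCompact (Spec.map (CommRingCat.ofHom (ψ y))) := inferInstance
    rw [← h.isoPullback_hom_snd] at hl
    exact (MorphismProperty.cancel_left_of_respectsIso (P := @QuasiCompact) _ _).1 hl

theorem polynomial_conclusion (H : ∀ y : Y, PolyChartAt π y) :
    LocallyOfFiniteType π ∧ QuasiCompact π ∧ ∀ x : Y,
      ∃ e : pullback π (Y.fromSpecResidueField x) ≅ Spec (CommRingCat.of (Polynomial (Y.residueField x))),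
        e.hom ≫ Spec.map (CommRingCat.ofHom (algebraMap (Y.residueField x) (Polynomial (Y.residueField x)))) =
          pullback.snd π (Y.fromSpecResidueField x) := by
  have h := finiteType_of_charts (π := π) fun y => by
    obtain ⟨R, j, hj, B, hB, ψ, c, ε, hpb, hy, hε⟩ := H y
    refine ⟨R, j, hj, B, hB, ψ, c, hpb, hy, ?_⟩
    subst hε
    exact (RingHom.FiniteType.of_surjective ε.toRingHom ε.surjective).comp
      ((RingHom.finiteType_algebraMap).2 (inferInstance : Algebra.FiniteType R (Polynomial R)))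
  refine ⟨h.1, h.2, fun x => ?_⟩
  obtain ⟨R, j, hj, B, hB, ψ, c, ε, hpb, hy, hε⟩ := H x
  exact Fibre.exists_iso_polynomial j hpb hy ε hε

theorem laurent_conclusion (H : ∀ y : Y, LaurentChartAt π y) :
    LocallyOfFiniteType π ∧ QuasiCompact π ∧ ∀ x : Y,
      ∃ e : pullback π (Y.fromSpecResidueField x) ≅ Spec (CommRingCat.of (LaurentPolynomial (Y.residueField x))),
        e.hom ≫ Spec.map (CommRingCat.ofHom (algebraMap (Y.residueField x) (LaurentPolynomial (Y.residueField x)))) =
          pullback.snd π (Y.fromSpecResidueField x) := by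
  have h := finiteType_of_charts (π := π) fun y => by
    obtain ⟨R, j, hj, B, hB, ψ, c, ε, hpb, hy, hε⟩ := H y
    refine ⟨R, j, hj, B, hB, ψ, c, hpb, hy, ?_⟩
    subst hε
    exact (RingHom.FiniteType.of_surjective ε.toRingHom ε.surjective).comp
      ((RingHom.finiteType_algebraMap).2 (inferInstance : Algebra.FiniteType R (LaurentPolynomial R)))
  refine ⟨h.1, h.2, fun x => ?_⟩
  obtain ⟨R, j, hj, B, hB, ψ, c, ε, hpb, hy, hε⟩ := H x
  exact Fibre.exists_iso_laurent j hpb hy ε hε

variable {A σ : Type u} [CommRing A] [SetLike σ A] [AddSubgroupClass σ A] (𝒜 : ℕ → σ) [GradedRing 𝒜]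

theorem exists_degree_one_notMem (hgen : (HomogeneousIdeal.irrelevant 𝒜).toIdeal ≤ Ideal.span (𝒜 1 : Set A))
    (x : Proj 𝒜) : ∃ f, f ∈ 𝒜 1 ∧ x ∈ Proj.basicOpen 𝒜 f := by
  by_contra hc
  push Not at hc
  refine x.not_irrelevant_le fun a ha => (Ideal.span_le.2 fun f hf => ?_) (hgen ha)
  by_contra h
  exact hc f hf h

end Groth.Agent.H11Cone.RetrFibre
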